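import Cfsg.Agent.Lib.PSpFourSpec.TensorSpec
import Cfsg.Agent.Lib.SpEightEven.Extension
import Cfsg.Agent.Lib.GLOrders.PrimeGraphP

/-!
`PSp(4, q)` and the extension of the natural module of `SL(2, q²)` for even `q`.
-/

set_option autoImplicit false
set_option linter.unusedSectionVars false
set_option maxHeartbeats 1000000

namespace Cfsg.Agent.PSpFour

open Matrix FormsLib FormTorus SpEightEven Recog

universe u

/-- Divisors of the maximal element orders of `PSp(4, q)`, `q` even. -/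
def InE (q N : ℕ) : Prop :=
  N ∣ q ^ 2 + 1 ∨ N ∣ q ^ 2 - 1 ∨ N ∣ 2 * (q + 1) ∨ N ∣ 2 * (q - 1) ∨ N ∣ 4

theorem inE_dvd {q N d : ℕ} (h : InE q N) (hd : d ∣ N) : InE q d := by
  rcases h with h | h | h | h | h
  · exact Or.inl (hd.trans h)
  · exact Or.inr (Or.inl (hd.trans h))
  · exact Or.inr (Or.inr (Or.inl (hd.trans h)))
  · exact Or.inr (Or.inr (Or.inr (Or.inl (hd.trans h))))
  · exact Or.inr (Or.inr (Or.inr (Or.inr (hd.trans h))))

section PSp

variable {F : Type u} [Field F] [Fintype F] [CharP F 2]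

theorem psp_upper_even (x : Cfsg.PSp 2 F) : InE (Fintype.card F) (orderOf x) := by
  obtain ⟨g, hg, hx⟩ := exists_iso_of_psp x
  obtain ⟨L, d, h1, h2, h3⟩ := shape_two 2 (spB 2 F) g spB_alt spB_nondeg hg (by simp) (by norm_num)
  rw [orderOf_psp hx]
  rw [← en_pow, Nat.card_eq_fintype_card] at h3
  have hd := orderOf_dvd_of_pow_eq_one (LinearEquiv.toLinearMap_injective h3)
  set q := Fintype.card F
  rcases L with _ | ⟨⟨e, s⟩, L⟩
  · simp only [torE] at h2
    refine Or.inr (Or.inr (Or.inr (Or.inr (hd.trans ?_))))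
    rw [show torL q [] = 1 from rfl, one_mul]
    refine (pow_dvd_pow 2 (Nat.clog_mono_right 2 (show 2 * d ≤ 4 by omega))).trans ?_
    rw [show Nat.clog 2 4 = 2 by decide]
    norm_num
  have he := h1 (e, s) List.mem_cons_self
  simp only [torE] at h2 he
  rcases L with _ | ⟨⟨e', s'⟩, L⟩
  · simp only [torE] at h2
    rw [show torL q [(e, s)] = torX q (e, s) from Nat.lcm_one_right _] at hd
    rcases Nat.lt_or_ge e 2 with he1 | he1
    · obtain rfl : e = 1 := by omega
      have h4 : 2 ^ Nat.clog 2 (2 * d) ∣ 2 := by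
        refine (pow_dvd_pow 2 (Nat.clog_mono_right 2 (show 2 * d ≤ 2 by omega))).trans ?_
        rw [show Nat.clog 2 2 = 1 by decide]
        norm_num
      have h5 := hd.trans ((Nat.mul_dvd_mul_left _ h4).trans (mul_comm _ 2).dvd)
      cases s
      · exact Or.inr (Or.inr (Or.inr (Or.inl (by simpa [torX] using h5))))
      · exact Or.inr (Or.inr (Or.inl (by simpa [torX] using h5)))
    · obtain rfl : e = 2 := by omega
      obtain rfl : d = 0 := by omega
      cases s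
      · exact Or.inr (Or.inl (by simpa [torX] using hd))
      · exact Or.inl (by simpa [torX] using hd)
  have he' := h1 (e', s') (List.mem_cons_of_mem _ List.mem_cons_self)
  simp only [torE] at h2 he'
  obtain rfl : e = 1 := by omega
  obtain rfl : e' = 1 := by omega
  obtain rfl : d = 0 := by omega
  rcases L with _ | ⟨⟨e'', s''⟩, L⟩
  · refine Or.inr (Or.inl (hd.trans ?_))
    have hfac : ∀ t : Bool, torX q (1, t) ∣ q ^ 2 - 1 := fun t => by
      rw [← one_pow 2, Nat.sq_sub_sq]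
      cases t <;> simp [torX]
    simp only [torL, mul_zero, Nat.clog_zero_right, pow_zero, mul_one, Nat.lcm_one_right]
    exact Nat.lcm_dvd (hfac s) (hfac s')
  · have := h1 (e'', s'') (List.mem_cons_of_mem _ (List.mem_cons_of_mem _ List.mem_cons_self))
    simp only [torE] at h2 this
    omega

theorem psp_range_even : Set.range (orderOf : Cfsg.PSp 2 F → ℕ) = {N | InE (Fintype.card F) N} := by
  ext N
  constructor
  · rintro ⟨y, rfl⟩
    exact psp_upper_even y
  intro h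
  obtain ⟨a, b, hab⟩ := SpEightEven.exists_aniso_pair (F := F)
  set q := Fintype.card F with hq
  have om : Odd (q + 1) := by simpa using odd_add (F := F) 1
  have op : Odd (q - 1) := by simpa using odd_sub (F := F) 1
  obtain ⟨s, hs⟩ : ∃ s, Mod F s 2 N := by
    rcases h with h | h | h | h | h
    · exact ⟨_, mod_dvd (mod_minus hab (e := 2) (by norm_num)) h⟩
    · exact ⟨_, mod_dvd (mod_plus (F := F) (e := 2) (by norm_num)) h⟩
    · refine ⟨_, mod_dvd (mod_prod hab le_rfl le_rfl (mod_minus hab (e := 1) le_rfl) (mod_two hab true)) (h.trans ?_)⟩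
      rw [pow_one, (Nat.coprime_two_right.2 om).lcm_eq_mul, mul_comm]
    · refine ⟨_, mod_dvd (mod_prod hab le_rfl le_rfl (mod_plus (F := F) (e := 1) le_rfl) (mod_two hab true)) (h.trans ?_)⟩
      rw [pow_one, (Nat.coprime_two_right.2 op).lcm_eq_mul, mul_comm]
    · exact ⟨_, mod_dvd (mod_four hab true) h⟩
  obtain ⟨Q, g, hQ, hg⟩ := hs
  haveI := finite_equiv (F := F) (V := Fin (2 * 2) → F)
  obtain ⟨x, hx⟩ := exists_psp_of_oGroup hQ.1 (m := 2) hQ.2.1 g
  exact GLOrders.mem_range_orderOf_of_dvd x (hx ▸ hg)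

end PSp

theorem exists_large_two {k : ℕ} (hk0 : 2 ≤ k) (M : ℕ) :
    ∃ (H : Type) (_ : Group H) (_ : Fintype H), M < Fintype.card H ∧
      Set.range (orderOf : H → ℕ) = {N | InE (2 ^ k) N} := by
  classical
  haveI : Fact (Nat.Prime 2) := ⟨Nat.prime_two⟩
  let K := GaloisField 2 (2 * k)
  haveI : Fintype K := Fintype.ofFinite K
  set q := 2 ^ k with hq
  have hcard : Fintype.card K = q ^ 2 := by
    rw [← Nat.card_eq_fintype_card, GaloisField.card 2 _ (by omega), hq, ← pow_mul, mul_comm]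
  have hq4 : 4 ≤ q := le_trans (by norm_num) (Nat.pow_le_pow_right (by norm_num) hk0)
  have hevq : Even q := Nat.even_pow.2 ⟨even_two, by omega⟩
  have oddp : Odd (q + 1) := hevq.add_one
  have oddm : Odd (q - 1) := Nat.Even.sub_odd (by omega) hevq odd_one
  let a : Fin 2 → ℕ := ![0, k]
  have hTriv : Triv 2 a K := fun c hc => by
    have h1 : c = 1 := by
      rcases mul_self_eq_one_iff.1 hc with h | h
      · exact h
      · rw [h, CharTwo.neg_eq]
    simp [h1]
  obtain ⟨H, i1, i2, hM, hH⟩ := exists_large (pRep 2 a hTriv) 2 M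
  refine ⟨H, i1, i2, hM, hH.trans (range_eq _ (InE q) (fun N d => inE_dvd)
    (tensor_upper 2 a hTriv (InE q) ?_ ?_ ?_) ?_)⟩
  · exact Or.inr (Or.inr (Or.inr (Or.inr dvd_rfl)))
  · intro M μ hμ
    rcases hμ.frob with h | h <;> rw [hcard] at h
    · refine ⟨q ^ 2 - 1, Or.inr (Or.inl dvd_rfl), hμ.period _ ?_⟩
      rw [Nat.mul_comm 2 (q ^ 2 - 1), pow_mul, show μ ^ (q ^ 2 - 1) = 1 from mul_right_cancel₀ hμ.ne_zero (by
        rw [← pow_succ, one_mul, Nat.sub_add_cancel (Nat.one_le_pow _ _ (by omega)), h]), one_pow]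
    · refine ⟨q ^ 2 + 1, Or.inl dvd_rfl, hμ.period _ ?_⟩
      rw [Nat.mul_comm 2 (q ^ 2 + 1), pow_mul, show μ ^ (q ^ 2 + 1) = 1 by rw [pow_succ, h, inv_mul_cancel₀ hμ.ne_zero], one_pow]
  · intro M μ hμ i hi
    have hdvd := weight_dvd 2 a hμ.ne_zero i hi
    suffices h : orderOf μ ∣ q + 1 ∨ orderOf μ ∣ q - 1 by
      rcases h with h | h
      · exact ⟨q + 1, Or.inr (Or.inr (Or.inl (mul_comm _ 2).dvd)),
          hμ.period _ (orderOf_dvd_iff_pow_eq_one.1 (h.mul_left 2))⟩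
      · exact ⟨q - 1, Or.inr (Or.inr (Or.inr (Or.inl (mul_comm _ 2).dvd))),
          hμ.period _ (orderOf_dvd_iff_pow_eq_one.1 (h.mul_left 2))⟩
    set A : ℤ := ∑ l, (![1, -1] (i l) : ℤ) * (2 ^ a l : ℕ) with hA
    have hh : ∀ B : ℕ, (A = B ∨ A = -(B : ℤ)) → orderOf μ ∣ B := fun B hB => by
      rcases hB with e | e <;> rw [e] at hdvd
      · exact Int.natCast_dvd_natCast.1 hdvd
      · exact Int.natCast_dvd_natCast.1 (Int.dvd_neg.1 hdvd)
    suffices h : (A = (q + 1 : ℕ) ∨ A = -((q + 1 : ℕ) : ℤ)) ∨ (A = (q - 1 : ℕ) ∨ A = -((q - 1 : ℕ) : ℤ)) by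
      exact h.imp (hh _) (hh _)
    rw [hA, Fin.sum_univ_two, Nat.cast_sub (by omega : 1 ≤ q)]
    obtain h0 | h0 := Fin.exists_fin_two.1 ⟨i 0, rfl⟩ <;>
    obtain h1 | h1 := Fin.exists_fin_two.1 ⟨i 1, rfl⟩ <;>
    simp only [h0, h1, Matrix.cons_val_zero, Matrix.cons_val_one, a, ← hq, pow_zero] <;>
    first
      | (left; left; push_cast; ring1)
      | (left; right; push_cast; ring1)
      | (right; left; push_cast; ring1)
      | (right; right; push_cast; ring1)
  · intro N hN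
    have mixed : ∀ n (i : Fin 2 → Fin 2) (μ : Kˣ), Odd n → orderOf μ = n →
        ∏ l, (![(μ : K), ((μ⁻¹ : Kˣ) : K)] (i l)) ^ 2 ^ a l = 1 → N ∣ 2 * n →
        ∃ g, ∃ v : (Fin 2 → Fin 2) → K, ∀ j, g ^ j = 1 →
          (∑ l ∈ Finset.range j, (en (pRep 2 a hTriv g)) ^ l) v = 0 → N ∣ j := by
      intro n i μ hn ho hi hNn
      obtain ⟨g, v, hg⟩ := diag_witness 2 a hTriv μ i hi
      refine ⟨g, v, fun j h1 h2 => hNn.trans ?_⟩
      obtain ⟨hj, h2j⟩ := hg j h1 h2
      rw [ho] at hj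
      exact Nat.Coprime.mul_dvd_of_dvd_of_dvd (Nat.coprime_two_left.2 hn) h2j
        ((Nat.coprime_two_right.2 hn).dvd_of_dvd_mul_left hj)
    rcases hN with h | h | h | h | h
    · obtain ⟨x, hx⟩ := PGLTwo.exists_pgl_order_add_one (F := K)
      obtain ⟨g, rfl⟩ := QuotientGroup.mk_surjective x
      set G := (g : Matrix (Fin 2) (Fin 2) K) with hG
      have hd0 : G.det ≠ 0 := (g.isUnit.map Matrix.detMonoidHom).ne_zero
      obtain ⟨c, hc⟩ := FiniteField.isSquare_of_char_two (F := K) (ringChar.eq K 2) G.det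
      have hc0 : c ≠ 0 := fun h0 => hd0 (by rw [hc, h0, zero_mul])
      let s : Matrix.SpecialLinearGroup (Fin 2) K := ⟨c⁻¹ • G, by
        rw [Matrix.det_smul, Fintype.card_fin, hc, sq, ← mul_assoc, mul_assoc c⁻¹ c⁻¹ c,
          inv_mul_cancel₀ hc0, mul_one, inv_mul_cancel₀ hc0]⟩
      refine ⟨QuotientGroup.mk s, 0, fun j hj _ => h.trans ?_⟩
      obtain ⟨r, hr⟩ := (PGLTwo.sl_mk_pow_eq_one_iff s j).1 hj
      change (c⁻¹ • G) ^ j = _ at hr
      rw [smul_pow, inv_pow, inv_smul_eq_iff₀ (pow_ne_zero _ hc0), smul_smul] at hr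
      rw [← hcard, ← hx]
      exact orderOf_dvd_of_pow_eq_one ((PGLTwo.gl_mk_pow_eq_one_iff g j).2 ⟨_, hr⟩)
    · obtain ⟨μ, hμ⟩ := exists_unit (K := K) (d := q ^ 2 - 1) (by rw [hcard])
      obtain ⟨g, v, hg⟩ := diag_order 2 a hTriv μ
      refine ⟨g, v, fun j h1 h2 => h.trans ?_⟩
      have := hg j h1 h2
      rw [hμ] at this
      exact (Nat.coprime_two_right.2 (Nat.Even.sub_odd (Nat.one_le_pow _ _ (by omega))
        (Nat.even_pow.2 ⟨hevq, two_ne_zero⟩) odd_one)).dvd_of_dvd_mul_left this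
    · obtain ⟨μ, hμ⟩ := exists_unit (K := K) (d := q + 1) (by rw [hcard, ← one_pow 2, Nat.sq_sub_sq]; exact dvd_mul_right _ _)
      refine mixed _ ![0, 0] μ oddp hμ ?_ h
      have h1 : (μ : K) ^ (q + 1) = 1 := by rw [← Units.val_pow_eq_pow_val, ← hμ, pow_orderOf_eq_one]; rfl
      simp [Fin.prod_univ_two, a, ← hq]
      linear_combination h1
    · obtain ⟨μ, hμ⟩ := exists_unit (K := K) (d := q - 1) (by rw [hcard, ← one_pow 2, Nat.sq_sub_sq]; exact dvd_mul_left _ _)
      refine mixed _ ![1, 0] μ oddm hμ ?_ h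
      have h1 : (μ : K) ^ (q - 1) = 1 := by rw [← Units.val_pow_eq_pow_val, ← hμ, pow_orderOf_eq_one]; rfl
      have h2 : (μ : K) ^ q = μ := by
        conv_lhs => rw [show q = q - 1 + 1 by omega, pow_succ, h1, one_mul]
      simp [Fin.prod_univ_two, a, ← hq]
      rw [h2, inv_mul_cancel₀ μ.ne_zero]
    · obtain ⟨g, v, hg⟩ := unip_witness 2 a hTriv ![1, 1] (by
        simp [Finset.sum_range_succ, Fin.prod_univ_two])
      exact ⟨g, v, fun j h1 h2 => h.trans (hg j h1 h2)⟩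

end Cfsg.Agent.PSpFour
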