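import Cfsg.Agent.Lib.FormTorus.Orders
import Cfsg.Agent.Lib.Recog.Spectrum

/-!
Element orders of semidirect products of a vector space by a group of linear maps.
-/

set_option autoImplicit false

namespace Cfsg.Agent.PSpFour

open FormTorus

variable {F V G : Type*} [Field F] [AddCommGroup V] [Module F V] [Group G]

/-- The action on the additive group of the module. -/
def act (ρ : G →* (V ≃ₗ[F] V)) : G →* MulAut (Multiplicative V) where
  toFun g := AddEquiv.toMultiplicative (ρ g).toAddEquiv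
  map_one' := MulEquiv.ext fun x => by rw [map_one]; rfl
  map_mul' g h := MulEquiv.ext fun x => by rw [map_mul]; rfl

theorem act_apply (ρ : G →* (V ≃ₗ[F] V)) (g : G) (x : Multiplicative V) :
    (act ρ g x).toAdd = ρ g x.toAdd := rfl

variable (ρ : G →* (V ≃ₗ[F] V))

theorem pow_left (x : Multiplicative V ⋊[act ρ] G) (i : ℕ) :
    (x ^ i).right = x.right ^ i ∧
      (x ^ i).left.toAdd = (∑ l ∈ Finset.range i, (en (ρ x.right)) ^ l) x.left.toAdd := by
  induction i with
  | zero => exact ⟨by simp, by simp⟩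
  | succ i ih =>
    refine ⟨by rw [pow_succ, SemidirectProduct.mul_right, ih.1, pow_succ], ?_⟩
    rw [pow_succ, SemidirectProduct.mul_left, toAdd_mul, ih.2, act_apply, ih.1,
      Finset.sum_range_succ, LinearMap.add_apply, map_pow, ← en_pow]
    rfl

theorem pow_one_iff (x : Multiplicative V ⋊[act ρ] G) (i : ℕ) :
    x ^ i = 1 ↔ x.right ^ i = 1 ∧ (∑ l ∈ Finset.range i, (en (ρ x.right)) ^ l) x.left.toAdd = 0 := by
  constructor
  · intro h
    exact ⟨by rw [← (pow_left ρ x i).1, h]; rfl, by rw [← (pow_left ρ x i).2, h]; rfl⟩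
  · rintro ⟨h1, h2⟩
    refine SemidirectProduct.ext ?_ ?_
    · rw [SemidirectProduct.one_left]
      refine Multiplicative.toAdd.injective ?_
      rw [(pow_left ρ x i).2, h2, toAdd_one]
    · rw [(pow_left ρ x i).1, h1, SemidirectProduct.one_right]

/-- A set closed under divisors which bounds every element and is attained is the spectrum. -/
theorem range_eq [Finite V] [Finite G] (P : ℕ → Prop) (hP : ∀ N d, P N → d ∣ N → P d)
    (hup : ∀ g : G, ∀ v : V, ∃ N, P N ∧ g ^ N = 1 ∧ (∑ l ∈ Finset.range N, (en (ρ g)) ^ l) v = 0)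
    (hdown : ∀ N, P N → ∃ g : G, ∃ v : V, ∀ j, g ^ j = 1 →
      (∑ l ∈ Finset.range j, (en (ρ g)) ^ l) v = 0 → N ∣ j) :
    Set.range (orderOf : Multiplicative V ⋊[act ρ] G → ℕ) = {N | P N} := by
  haveI : Finite (Multiplicative V ⋊[act ρ] G) := Finite.of_equiv _ SemidirectProduct.equivProd.symm
  ext N
  constructor
  · rintro ⟨x, rfl⟩
    obtain ⟨M, hM, h1, h2⟩ := hup x.right x.left.toAdd
    exact hP _ _ hM (orderOf_dvd_of_pow_eq_one ((pow_one_iff ρ x M).2 ⟨h1, h2⟩))
  · intro hN
    obtain ⟨g, v, h⟩ := hdown N hN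
    let x : Multiplicative V ⋊[act ρ] G := ⟨Multiplicative.ofAdd v, g⟩
    have hx : N ∣ orderOf x := by
      obtain ⟨h1, h2⟩ := (pow_one_iff ρ x _).1 (pow_orderOf_eq_one x)
      exact h _ h1 h2
    exact ⟨x ^ (orderOf x / N), orderOf_pow_orderOf_div (orderOf_pos x).ne' hx⟩

/-- Arbitrarily large groups with the spectrum of `V ⋊ G`. -/
theorem exists_large [Finite V] [Nontrivial V] [Finite G] (p : ℕ) [Fact p.Prime] [CharP F p] (M : ℕ) :
    ∃ (H : Type) (_ : Group H) (_ : Fintype H), M < Fintype.card H ∧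
      Set.range (orderOf : H → ℕ) = Set.range (orderOf : Multiplicative V ⋊[act ρ] G → ℕ) := by
  refine Recog.exists_large (act ρ) (p := p) (fun v => ?_) M
  apply Multiplicative.toAdd.injective
  rw [toAdd_pow, toAdd_one, ← Nat.cast_smul_eq_nsmul F, CharP.cast_eq_zero, zero_smul]

end Cfsg.Agent.PSpFour
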