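import Cfsg.Agent.Lib.SpinNine.Shape
import Cfsg.Agent.Lib.SpinNine.Build
import Cfsg.Agent.Lib.LinearGroups.FormCount

/-!
Element orders of isometries in dimension at most five, odd characteristic.
-/

set_option autoImplicit false
set_option linter.unusedSectionVars false
set_option maxHeartbeats 1000000

namespace Cfsg.Agent.PSpFour

open FormsLib FormTorus OrthClasses SpEightEven SpinNine

universe u v

variable {F : Type u} [Field F] [Fintype F]

/-- Divisors of the maximal element orders of `PSp(4, q)`, `q` odd. -/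
def InB (p q N : ℕ) : Prop :=
  N ∣ (q ^ 2 + 1) / 2 ∨ N ∣ (q ^ 2 - 1) / 2 ∨ N ∣ p * (q + 1) ∨ N ∣ p * (q - 1) ∨ N ∣ p ^ Nat.clog p 4

theorem inB_dvd {p q N d : ℕ} (h : InB p q N) (hd : d ∣ N) : InB p q d := by
  rcases h with h | h | h | h | h
  · exact Or.inl (hd.trans h)
  · exact Or.inr (Or.inl (hd.trans h))
  · exact Or.inr (Or.inr (Or.inl (hd.trans h)))
  · exact Or.inr (Or.inr (Or.inr (Or.inl (hd.trans h))))
  · exact Or.inr (Or.inr (Or.inr (Or.inr (hd.trans h))))

theorem inB_tor {p q N : ℕ} (s : Bool) (h : N ∣ p * torX q (1, s)) : InB p q N := by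
  cases s
  · exact Or.inr (Or.inr (Or.inr (Or.inl (by simpa [torX] using h))))
  · exact Or.inr (Or.inr (Or.inl (by simpa [torX] using h)))

theorem even_torX (h2 : (2 : F) ≠ 0) (s : Bool) : Even (torX (Fintype.card F) (1, s)) := by
  obtain ⟨z, hz⟩ := odd_card (F := F) h2
  cases s
  · exact ⟨z, by simp [torX]; omega⟩
  · exact ⟨z + 1, by simp [torX]; omega⟩

theorem half_sub (q : ℕ) (hq : Odd q) : (q ^ 2 - 1) / 2 = Nat.lcm (q - 1) (q + 1) := by
  obtain ⟨z, rfl⟩ := hq
  have h : Nat.lcm (2 * z + 1 - 1) (2 * z + 1 + 1) * 2 = (2 * z + 1 - 1) * (2 * z + 1 + 1) := by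
    have hg : Nat.gcd (2 * z + 1 - 1) (2 * z + 1 + 1) = 2 := by
      rw [show 2 * z + 1 + 1 = 2 * z + 1 - 1 + 2 by omega, Nat.gcd_self_add_right]
      exact Nat.gcd_eq_right ⟨z, by omega⟩
    have := Nat.gcd_mul_lcm (2 * z + 1 - 1) (2 * z + 1 + 1)
    rw [hg] at this
    linarith
  rw [show (2 * z + 1) ^ 2 - 1 = (2 * z + 1 - 1) * (2 * z + 1 + 1) by
    rw [Nat.mul_comm (2 * z + 1 - 1), ← Nat.sq_sub_sq, one_pow], ← h, Nat.mul_div_cancel _ two_pos]

/-- The points of an anisotropic conic. -/
theorem card_conic (h2 : (2 : F) ≠ 0) {a b : F}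
    (hab : ∀ z₁ z₂ : F, z₁ ^ 2 + a * z₁ * z₂ + b * z₂ ^ 2 = 0 → z₁ = 0 ∧ z₂ = 0) :
    Nat.card {z : Fin 2 → F // z 0 ^ 2 + a * z 0 * z 1 + b * z 1 ^ 2 = 1} = Fintype.card F + 1 := by
  classical
  have hg : ∀ t : F, t ^ 2 + a * t + b ≠ 0 := fun t h =>
    one_ne_zero (hab t 1 (by linear_combination h)).2
  let l : F → F := fun t => -(2 * t + a) / (t ^ 2 + a * t + b)
  have hl : ∀ t, l t * (t ^ 2 + a * t + b) = -(2 * t + a) := fun t => div_mul_cancel₀ _ (hg t)
  let f : Option F → {z : Fin 2 → F // z 0 ^ 2 + a * z 0 * z 1 + b * z 1 ^ 2 = 1} := fun o => match o with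
    | none => ⟨![-1, 0], by simp⟩
    | some t => ⟨![1 + l t * t, l t], by
        show (1 + l t * t) ^ 2 + a * (1 + l t * t) * l t + b * l t ^ 2 = 1
        linear_combination l t * hl t⟩
  have hbij : Function.Bijective f := by
    constructor
    · rintro (_ | t) (_ | t') h
      · rfl
      · have e0 := congrFun (congrArg Subtype.val h) 0
        have e1 := congrFun (congrArg Subtype.val h) 1
        simp [f] at e0 e1
        rw [← e1, zero_mul, add_zero] at e0
        exact absurd (by linear_combination -e0 : (2 : F) = 0) h2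
      · have e0 := congrFun (congrArg Subtype.val h) 0
        have e1 := congrFun (congrArg Subtype.val h) 1
        simp [f] at e0 e1
        rw [e1, zero_mul, add_zero] at e0
        exact absurd (by linear_combination e0 : (2 : F) = 0) h2
      · have e0 : 1 + l t * t = 1 + l t' * t' := congrFun (congrArg Subtype.val h) 0
        have e1 : l t = l t' := congrFun (congrArg Subtype.val h) 1
        congr 1
        rcases eq_or_ne (l t) 0 with h0 | h0
        · have a1 := hl t
          have a2 := hl t'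
          rw [h0, zero_mul] at a1
          rw [← e1, h0, zero_mul] at a2
          exact mul_left_cancel₀ h2 (by linear_combination a1 - a2)
        · rw [← e1] at e0
          exact mul_left_cancel₀ h0 (by linear_combination e0)
    · intro z
      obtain ⟨z, hz⟩ := z
      rcases eq_or_ne (z 1) 0 with h0 | h0
      · rw [h0] at hz
        rcases mul_self_eq_one_iff.1 (show z 0 * z 0 = 1 by linear_combination hz) with h | h
        · refine ⟨some (-a / 2), Subtype.ext ?_⟩
          have hl0 : l (-a / 2) = 0 := by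
            show -(2 * (-a / 2) + a) / _ = 0
            rw [mul_div_cancel₀ _ h2, neg_add_cancel, neg_zero, zero_div]
          funext i
          fin_cases i
          · simp [f, hl0, h]
          · simp [f, hl0, h0]
        · refine ⟨none, Subtype.ext ?_⟩
          funext i
          fin_cases i
          · simp [f, h]
          · simp [f, h0]
      · set t := (z 0 - 1) / z 1 with htdef
        have ht : t * z 1 = z 0 - 1 := div_mul_cancel₀ _ h0
        have hlz : l t = z 1 := by
          refine mul_right_cancel₀ (hg t) ((hl t).trans (mul_left_cancel₀ h0 ?_))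
          linear_combination -hz - (2 + (t * z 1 + z 0 - 1) + a * z 1) * ht
        refine ⟨some t, Subtype.ext ?_⟩
        funext i
        fin_cases i
        · simp [f, hlz]
          linear_combination ht
        · simp [f, hlz]
  rw [← Nat.card_congr (Equiv.ofBijective f hbij), Finite.card_option, Nat.card_eq_fintype_card]

variable {a b : F} (hab : ∀ z₁ z₂ : F, z₁ ^ 2 + a * z₁ * z₂ + b * z₂ ^ 2 = 0 → z₁ = 0 ∧ z₂ = 0)
include hab

/-- The sphere in dimension four. -/
theorem card_sphere_four (h2 : (2 : F) ≠ 0) {V : Type v} [AddCommGroup V] [Module F V] [FiniteDimensional F V]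
    {Q : QuadraticForm F V} {s : Bool} (h : Sgn Q 2 s) :
    Nat.card {x : V // Q x = 1} =
      Fintype.card F * (if s then Fintype.card F ^ 2 - 1 else Fintype.card F ^ 2 + 1) := by
  classical
  set q := Fintype.card F with hq
  have hqpos : 0 < q := Fintype.card_pos
  cases s
  · obtain ⟨L, hL⟩ := minus_of_sgn hab (by norm_num) h
    have e1 : Nat.card {x : V // Q x = 1} =
        Nat.card {v : MI 1 → F // Cfsg.quadFormMinus 1 F a b v = 1} :=
      Nat.card_congr (L.toEquiv.subtypeEquiv fun v => by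
        show Q v = 1 ↔ Cfsg.quadFormMinus 1 F a b (L v) = 1
        rw [← hL])
    let e : ((Fin 1 ⊕ Fin 1) ⊕ Fin 2 → F) ≃ (Fin 2 → F) × (Fin 1 ⊕ Fin 1 → F) :=
      (Equiv.sumArrowEquivProdArrow _ _ _).trans (Equiv.prodComm _ _)
    let g : (Fin 2 → F) → F := fun z => z 0 ^ 2 + a * z 0 * z 1 + b * z 1 ^ 2
    have hQ : ∀ z w, Cfsg.quadFormMinus 1 F a b (e.symm (z, w)) = g z + Cfsg.quadFormPlus 1 F w := by
      intro z w
      simp [e, g, Cfsg.quadFormMinus, Cfsg.quadFormPlus]
      ring
    have hs := FormCount.step e (Cfsg.quadFormMinus 1 F a b) g _ hQ _ _ _ 1 (fun z => FormCount.card_plus (F := F) 1 _)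
    rw [card_conic h2 hab, Fintype.card_fun, Fintype.card_fin] at hs
    rw [if_neg (by simp), e1]
    refine Nat.eq_of_mul_eq_mul_left hqpos ?_
    have : ((q * Nat.card {v : MI 1 → F // Cfsg.quadFormMinus 1 F a b v = 1} : ℕ) : ℤ) =
        ((q * (q * (q ^ 2 + 1)) : ℕ) : ℤ) := by
      push_cast
      rw [hs]
      push_cast
      ring
    exact_mod_cast this
  · obtain ⟨L, hL⟩ := plus_of_sgn hab (by norm_num) h
    have e1 : Nat.card {x : V // Q x = 1} = Nat.card {v : PI 2 → F // Cfsg.quadFormPlus 2 F v = 1} :=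
      Nat.card_congr (L.toEquiv.subtypeEquiv fun v => by
        show Q v = 1 ↔ Cfsg.quadFormPlus 2 F (L v) = 1
        rw [← hL])
    have hs := FormCount.card_plus (F := F) 2 (1 : F)
    rw [if_neg one_ne_zero] at hs
    rw [if_pos rfl, e1]
    refine Nat.eq_of_mul_eq_mul_left hqpos ?_
    have hq1 : 1 ≤ q ^ 2 := Nat.one_le_pow _ _ hqpos
    have : ((q * Nat.card {v : PI 2 → F // Cfsg.quadFormPlus 2 F v = 1} : ℕ) : ℤ) =
        ((q * (q * (q ^ 2 - 1)) : ℕ) : ℤ) := by
      push_cast [Nat.cast_sub hq1]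
      rw [hs]
      ring
    exact_mod_cast this

omit hab

section Small

variable (p : ℕ) [hp : Fact p.Prime] [hchar : CharP F p] (h2 : (2 : F) ≠ 0)
include hp hchar h2

theorem three_le_p : 3 ≤ p := by
  obtain ⟨z, hz⟩ := odd_p (F := F) p h2
  have := hp.out.two_le
  omega

theorem small_two {V : Type v} [AddCommGroup V] [Module F V] [FiniteDimensional F V]
    {Q : QuadraticForm F V} (hQ : (QuadraticMap.polarBilin Q).Nondegenerate) (g : oGroup Q)
    (hfix : ∀ v, g.1 v = v → v = 0) (hd : Module.finrank F V ≤ 2) :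
    ∃ s : Bool, g ^ torX (Fintype.card F) (1, s) = 1 := by
  rcases Nat.eq_zero_or_pos (Module.finrank F V) with h0 | h0
  · haveI : Subsingleton V := (Module.finrank_zero_iff (R := F)).1 h0
    exact ⟨true, (pow_eq_one_iff_en g _).2 (LinearMap.ext fun v => Subsingleton.elim _ _)⟩
  haveI : Nontrivial V := Module.nontrivial_of_finrank_pos (R := F) h0
  rcases Nat.lt_or_ge (Module.finrank F V) 2 with h1 | h1
  · obtain ⟨v0, hv0⟩ := exists_ne (0 : V)
    have hspan : ∀ x : V, ∃ c : F, c • v0 = x :=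
      fun x => exists_smul_eq_of_finrank_eq_one (by omega) hv0 x
    have hQ0 : Q v0 ≠ 0 := fun h => hv0 (hQ.1 v0 fun y => by
      obtain ⟨c, rfl⟩ := hspan y
      rw [QuadraticMap.polarBilin_apply_apply, QuadraticMap.polar_smul_right, polar_self', h]
      simp)
    obtain ⟨c, hc⟩ := hspan (g.1 v0)
    have hc2 : c * c = 1 := by
      have := g.2 v0
      rw [← hc, QuadraticMap.map_smul, smul_eq_mul] at this
      exact mul_right_cancel₀ hQ0 (this.trans (one_mul _).symm)
    have hcn : c = -1 := (mul_self_eq_one_iff.1 hc2).resolve_left fun h =>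
      hv0 (hfix v0 (by rw [← hc, h, one_smul]))
    have hall : ∀ x, en g.1 x = -x := fun x => by
      obtain ⟨d, rfl⟩ := hspan x
      show g.1 (d • v0) = _
      rw [map_smul, ← hc, hcn, neg_one_smul, smul_neg]
    refine ⟨true, (pow_eq_one_iff_en g _).2 ?_⟩
    rw [show en g.1 = -1 from LinearMap.ext hall]
    exact (even_torX h2 true).neg_one_pow
  · obtain ⟨L, d, hL, hne, hb, hpw⟩ := (shape_rec p h2 _ Q hQ g hfix rfl h0).1 ⟨1, by omega⟩
    obtain ⟨⟨e, s⟩, L', rfl⟩ := List.exists_cons_of_ne_nil hne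
    have he := hL (e, s) List.mem_cons_self
    simp only [torE] at hb he
    obtain rfl : e = 1 := by omega
    obtain rfl : d = 0 := by omega
    cases L' with
    | nil =>
      refine ⟨s, (pow_eq_one_iff_en g _).2 ?_⟩
      simpa [torL] using hpw
    | cons y L'' =>
      have := hL y (List.mem_cons_of_mem _ List.mem_cons_self)
      simp only [torE] at hb
      omega

theorem small_three {V : Type v} [AddCommGroup V] [Module F V] [FiniteDimensional F V]
    {Q : QuadraticForm F V} (hQ : (QuadraticMap.polarBilin Q).Nondegenerate) (g : oGroup Q)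
    (hfix : ∀ v, g.1 v = v → v = 0) (hd : Module.finrank F V ≤ 3) :
    ∃ s : Bool, g ^ (p * torX (Fintype.card F) (1, s)) = 1 := by
  rcases Nat.lt_or_ge (Module.finrank F V) 3 with h1 | h1
  · obtain ⟨s, hs⟩ := small_two p h2 hQ g hfix (by omega)
    exact ⟨s, by rw [mul_comm, pow_mul, hs, one_pow]⟩
  let h : oGroup Q := ⟨g.1.trans (LinearEquiv.neg F), fun v => by
    show Q (-(g.1 v)) = Q v
    rw [QuadraticMap.map_neg, g.2]⟩
  have hen : en h.1 = -en g.1 := LinearMap.ext fun v => rfl
  obtain ⟨U, W, e, he, hU', hW', hU, hW, heq, hnil, hWfix⟩ := exists_split hQ h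
  have hsum : Module.finrank F U + Module.finrank F W = Module.finrank F V := by
    rw [← Module.finrank_prod, e.finrank_eq]
  have hUpos : 0 < Module.finrank F U := by
    by_contra hzero
    haveI : Subsingleton U := (Module.finrank_zero_iff (R := F)).1 (by omega)
    have hhfix : ∀ v, h.1 v = v → v = 0 := fun v hv => by
      obtain ⟨⟨x, y⟩, rfl⟩ := e.surjective v
      rw [heq, oTrans_apply] at hv
      have := e.injective hv
      rw [Subsingleton.elim x 0, hWfix y (congrArg Prod.snd this)]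
      exact map_zero e
    obtain ⟨w, hw, K, hK⟩ := (shape_rec p h2 _ Q hQ h hhfix rfl (by omega)).2 ⟨1, by omega⟩
    have hKw := hK K le_rfl
    rw [hen, ((odd_p (F := F) p h2).pow).neg_pow, LinearMap.neg_apply, neg_inj] at hKw
    haveI : Nontrivial V := nontrivial_of_ne w 0 hw
    haveI : CharP (Module.End F V) p :=
      charP_of_injective_algebraMap (algebraMap F (Module.End F V)).injective p
    have hinj : Function.Injective (en g.1 - 1 : Module.End F V) :=
      (injective_iff_map_eq_zero _).2 fun v hv => hfix v (sub_eq_zero.1 hv)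
    refine hw ((hinj.iterate (p ^ K)) ?_)
    rw [← Module.End.coe_pow, sub_pow_char_pow_of_commute (p := p) (h := Commute.one_right _), one_pow,
      LinearMap.sub_apply, hKw, Module.End.one_apply, sub_self, map_zero]
  obtain ⟨s, hs⟩ := small_two p h2 hW hW' hWfix (by omega)
  refine ⟨s, (pow_eq_one_iff_en g _).2 ?_⟩
  have hUp : hU' ^ p ^ 1 = 1 :=
    unip_pow p hU' hnil (by have := three_le_p (F := F) p h2; rw [pow_one]; omega)
  rw [pow_one] at hUp
  have hpow : h ^ (p * torX (Fintype.card F) (1, s)) = 1 := by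
    rw [heq, ← map_pow, ← map_pow, Prod.pow_mk, pow_mul, hUp, one_pow, mul_comm, pow_mul, hs, one_pow,
      Prod.mk_one_one, map_one, map_one]
  have h' := (pow_eq_one_iff_en h _).1 hpow
  rwa [hen, ((even_torX h2 s).mul_left p).neg_pow] at h'

include hab in
/-- Isometries of determinant one and trivial spinor norm without fixed vectors in dimension four. -/
theorem four {V : Type v} [AddCommGroup V] [Module F V] [FiniteDimensional F V]
    {Q : QuadraticForm F V} (hQ : (QuadraticMap.polarBilin Q).Nondegenerate) (g : oGroup Q)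
    (hfix : ∀ v, g.1 v = v → v = 0) (hd : Module.finrank F V = 4) (hs : Spinor.spin g = 1) :
    InB p (Fintype.card F) (orderOf g) := by
  classical
  haveI := finite_equiv (F := F) (V := V)
  haveI : Finite V := Module.finite_of_finite F
  haveI : Nontrivial V := Module.nontrivial_of_finrank_pos (R := F) (by omega)
  set q := Fintype.card F with hq
  have hodd := odd_card (F := F) h2
  have hp3 := three_le_p (F := F) p h2
  rcases cases_one p h2 hQ g hfix with
    ⟨W₁, W₂, hc, hb1, hb2, ho, hi1, hi2, hT⟩ | ⟨-, hpw⟩ | ⟨hodd', -⟩ | ⟨e, k, sgn, he, hk, hek, hpw, hfree⟩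
  · obtain ⟨h₁, he₁, hn₁, hf₁⟩ := exists_part p hQ g hfix hc ho hi1
    obtain ⟨h₂, he₂, hn₂, hf₂⟩ := exists_part p hQ g hfix hc.symm
      (fun x hx y hy => by rw [QuadraticMap.polar_comm]; exact ho y hy x hx) hi2
    have hsum := Submodule.finrank_add_eq_of_isCompl hc
    have hp1 : 0 < Module.finrank F W₁ := by rw [pos_iff_ne_zero, Ne, Submodule.finrank_eq_zero]; exact hb1
    have hp2 : 0 < Module.finrank F W₂ := by rw [pos_iff_ne_zero, Ne, Submodule.finrank_eq_zero]; exact hb2
    rcases Nat.even_or_odd (Module.finrank F W₁) with ⟨r, hr⟩ | o1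
    · obtain ⟨s₁, t₁⟩ := small_two p h2 hn₁ h₁ hf₁ (by omega)
      obtain ⟨s₂, t₂⟩ := small_two p h2 hn₂ h₂ hf₂ (by omega)
      set N := Nat.lcm (torX q (1, s₁)) (torX q (1, s₂)) with hN
      have hgN : g ^ N = 1 := by
        refine (pow_eq_one_iff_en g N).2 (LinearMap.ext fun v => ?_)
        obtain ⟨x, hx, y, hy, rfl⟩ :=
          Submodule.mem_sup.1 (hc.sup_eq_top ▸ Submodule.mem_top : v ∈ W₁ ⊔ W₂)
        have e1 := inter_pow W₁.subtype (a := en h₁.1) (b := en g.1) he₁ N ⟨x, hx⟩
        have e2 := inter_pow W₂.subtype (a := en h₂.1) (b := en g.1) he₂ N ⟨y, hy⟩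
        rw [(pow_eq_one_iff_en h₁ N).1 (orderOf_dvd_iff_pow_eq_one.1
          ((orderOf_dvd_of_pow_eq_one t₁).trans (Nat.dvd_lcm_left _ _)))] at e1
        rw [(pow_eq_one_iff_en h₂ N).1 (orderOf_dvd_iff_pow_eq_one.1
          ((orderOf_dvd_of_pow_eq_one t₂).trans (Nat.dvd_lcm_right _ _)))] at e2
        simp only [Submodule.subtype_apply, Module.End.one_apply] at e1 e2
        rw [map_add, Module.End.one_apply, ← e1, ← e2]
      have hd' := orderOf_dvd_of_pow_eq_one hgN
      have hmix : Nat.lcm (q - 1) (q + 1) = (q ^ 2 - 1) / 2 := (half_sub q hodd).symm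
      cases s₁ <;> cases s₂ <;> simp [torX, hN] at hd'
      · exact Or.inr (Or.inr (Or.inr (Or.inl (hd'.trans (Dvd.intro_left _ rfl)))))
      · exact Or.inr (Or.inl (hmix ▸ hd'))
      · exact Or.inr (Or.inl (hmix ▸ (Nat.lcm_comm (q + 1) (q - 1) ▸ hd')))
      · exact Or.inr (Or.inr (Or.inl (hd'.trans (Dvd.intro_left _ rfl))))
    · have o2 : Odd (Module.finrank F W₂) := by
        obtain ⟨r, hr⟩ := o1
        exact ⟨1 - r, by omega⟩
      exact (not_both_odd p g hc hT h₁ he₁ hn₁ h₂ he₂ ((shape_rec p h2 _ _ hn₁ h₁ hf₁ rfl hp1).2 o1)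
        ((shape_rec p h2 _ _ hn₂ h₂ hf₂ rfl hp2).2 o2)).elim
  · have hcl : Nat.clog p (Module.finrank F V - 1) = 1 := by
      rw [hd]; exact Nat.clog_eq_one (by norm_num) (by omega)
    rw [hcl, pow_one] at hpw
    refine Or.inr (Or.inr (Or.inl ((orderOf_dvd_of_pow_eq_one ((pow_eq_one_iff_en g _).2 hpw)).trans ?_)))
    obtain ⟨z, hz⟩ := hodd.add_one
    exact ⟨z, by rw [hz]; ring⟩
  · exact absurd hodd' (by rw [hd]; decide)
  · have hek2 : e * k = 2 := by omega
    have hcases : (e = 2 ∧ k = 1) ∨ (e = 1 ∧ k = 2) := by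
      have : e ≤ 2 := Nat.le_of_dvd (by norm_num) ⟨k, hek2.symm⟩
      interval_cases e <;> omega
    rcases hcases with ⟨rfl, rfl⟩ | ⟨rfl, rfl⟩
    · rw [Nat.clog_one_right, pow_zero, mul_one] at hpw
      set N := orderOf g with hN
      have hNX : N ∣ torX q (2, sgn) := orderOf_dvd_of_pow_eq_one ((pow_eq_one_iff_en g _).2 hpw)
      by_cases hg1 : g = 1
      · rw [hN, hg1, orderOf_one]
        exact Or.inl (one_dvd _)
      obtain ⟨kk, hcard, -⟩ := free_sphere (hfree rfl) hg1
      obtain ⟨s, hS⟩ : ∃ s, Sgn Q 2 s := by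
        by_cases hh : HasHalf (F := F) ⇑Q 2
        · exact ⟨true, hQ, hd, iff_of_true hh rfl⟩
        · exact ⟨false, hQ, hd, iff_of_false hh (by simp)⟩
      set Y := if s then q ^ 2 - 1 else q ^ 2 + 1 with hY
      have hY' : q * Y = N * kk := by rw [← hcard, card_sphere_four hab h2 hS]
      have hq2 : 2 ≤ q ^ 2 := le_trans Fintype.one_lt_card (Nat.le_self_pow two_ne_zero q)
      have hcoX : Nat.Coprime (torX q (2, sgn)) q := by
        refine Nat.coprime_of_dvd fun r hr hr1 hr2 => hr.not_dvd_one ?_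
        have hrq : r ∣ q ^ 2 := dvd_pow hr2 two_ne_zero
        cases sgn
        · have : torX q (2, false) = q ^ 2 - 1 := rfl
          rw [this] at hr1
          have := Nat.dvd_sub hrq hr1
          rwa [show q ^ 2 - (q ^ 2 - 1) = 1 by omega] at this
        · have : torX q (2, true) = q ^ 2 + 1 := rfl
          rw [this] at hr1
          exact (Nat.dvd_add_right hrq).1 hr1
      have hNY : N ∣ Y :=
        (Nat.Coprime.coprime_dvd_left hNX hcoX).dvd_of_dvd_mul_left ⟨kk, hY'⟩
      have hfin : ∀ X, Even X → N ∣ X → q * X = N * kk → N ∣ X / 2 := by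
        intro X hXe hX hXk
        obtain ⟨c, hc⟩ := hX
        rcases Nat.even_or_odd c with ⟨c', hc'⟩ | hco
        · exact ⟨c', by rw [hc, hc', show N * (c' + c') = 2 * (N * c') by ring,
            Nat.mul_div_cancel_left _ two_pos]⟩
        · exfalso
          have hNe : Even N := by
            by_contra hno
            exact Nat.not_even_iff_odd.2 ((Nat.not_even_iff_odd.1 hno).mul hco) (hc ▸ hXe)
          have hkk : kk = q * c :=
            Nat.eq_of_mul_eq_mul_left (orderOf_pos g) (by rw [← hXk, hc]; ring)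
          have hinv := free_inv h2 (hfree rfl) hNe (by rw [hd]; decide) (k := kk)
            (hkk ▸ hodd.mul hco) hcard
          rw [hs] at hinv
          exact absurd hinv.2 (by decide)
      have htwo : N ∣ 2 → InB p q N := fun h =>
        Or.inr (Or.inr (Or.inl (h.trans (Dvd.dvd.mul_left hodd.add_one.two_dvd p))))
      have hep : Even (q ^ 2 + 1) := hodd.pow.add_one
      have hem : Even (q ^ 2 - 1) := Nat.Odd.sub_odd hodd.pow odd_one
      cases s <;> cases sgn
      · refine htwo ?_
        have h1 : N ∣ q ^ 2 + 1 := hNY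
        have h3 := Nat.dvd_sub h1 (show N ∣ q ^ 2 - 1 from hNX)
        rwa [show q ^ 2 + 1 - (q ^ 2 - 1) = 2 by omega] at h3
      · exact Or.inl (hfin _ hep hNY hY')
      · exact Or.inr (Or.inl (hfin _ hem hNY hY'))
      · refine htwo ?_
        have h1 : N ∣ q ^ 2 + 1 := hNX
        have h3 := Nat.dvd_sub h1 (show N ∣ q ^ 2 - 1 from hNY)
        rwa [show q ^ 2 + 1 - (q ^ 2 - 1) = 2 by omega] at h3
    · have hcl : Nat.clog p 2 = 1 := Nat.clog_eq_one le_rfl hp.out.two_le
      rw [hcl, pow_one, mul_comm] at hpw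
      exact inB_tor sgn (orderOf_dvd_of_pow_eq_one ((pow_eq_one_iff_en g _).2 hpw))

theorem clog_four : Nat.clog p 4 = Nat.clog p 5 := by
  rcases Nat.lt_or_ge p 5 with h | h
  · have h3 := three_le_p (F := F) p h2
    obtain ⟨z, hz⟩ := odd_p (F := F) p h2
    obtain rfl : p = 3 := by omega
    decide
  · rw [Nat.clog_eq_one (by norm_num) (by omega), Nat.clog_eq_one (by norm_num) h]

include hab in
/-- Element orders of the derived group in dimension five. -/
theorem five {V : Type u} [AddCommGroup V] [Module F V] [FiniteDimensional F V]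
    {Q : QuadraticForm F V} (hQ : (QuadraticMap.polarBilin Q).Nondegenerate)
    (hd : Module.finrank F V = 5) (g : oGroup Q) (hg : g ∈ commutator (oGroup Q)) :
    InB p (Fintype.card F) (orderOf g) := by
  obtain ⟨U, W, e, he, gU, gW, hU, hW, heq, hnil, hfix, -, hs, ⟨r, hr⟩, hsum⟩ := split_inv p h2 hQ g hg
  have hgN : ∀ N, gU ^ N = 1 → gW ^ N = 1 → g ^ N = 1 := fun N h1 h3 => by
    rw [heq, ← map_pow, ← map_pow, Prod.pow_mk, h1, h3, Prod.mk_one_one, map_one, map_one]
  have hp3 := three_le_p (F := F) p h2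
  have hr2 : r ≤ 2 := by omega
  interval_cases r
  · haveI : Subsingleton W := (Module.finrank_zero_iff (R := F)).1 (by omega)
    refine Or.inr (Or.inr (Or.inr (Or.inr ?_)))
    rw [clog_four (F := F) p h2]
    refine orderOf_dvd_of_pow_eq_one (hgN _ (unip_pow p gU hnil (le_trans (by omega) (Nat.le_pow_clog hp.out.one_lt 5))) ?_)
    exact (pow_eq_one_iff_en gW _).2 (LinearMap.ext fun v => Subsingleton.elim _ _)
  · obtain ⟨s, hs'⟩ := small_two p h2 hW gW hfix (by omega)
    refine inB_tor s (orderOf_dvd_of_pow_eq_one (hgN _ ?_ (by rw [mul_comm, pow_mul, hs', one_pow])))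
    have hu : gU ^ p ^ 1 = 1 := unip_pow p gU hnil (by rw [pow_one]; omega)
    rw [pow_one] at hu
    rw [pow_mul, hu, one_pow]
  · refine inB_dvd (four hab p h2 hW gW hfix (by omega) hs) (orderOf_dvd_of_pow_eq_one (hgN _ ?_ (pow_orderOf_eq_one gW)))
    have hu : gU ^ p ^ 0 = 1 := unip_pow p gU hnil (by simp; omega)
    rw [pow_zero, pow_one] at hu
    rw [hu, one_pow]

end Small

end Cfsg.Agent.PSpFour
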