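import Cfsg.Agent.Lib.PSpFourSpec.Geom
import Cfsg.Agent.Lib.PSpFourSpec.Ext
import Cfsg.Agent.Lib.LinearGroups.OrthForms
import Cfsg.Agent.Lib.SpinNine.Main

/-!
The extension of the natural module by the orthogonal isometries of trivial spinor norm, minus type in
dimension four.
-/

set_option autoImplicit false
set_option linter.unusedSectionVars false
set_option maxHeartbeats 1000000

namespace Cfsg.Agent.PSpFour

open FormsLib FormTorus OrthClasses SpEightEven SpinNine

universe u v w

variable {F : Type u} [Field F] [Fintype F]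

theorem spin_oTrans (h2 : (2 : F) ≠ 0) {V : Type v} [AddCommGroup V] [Module F V] [FiniteDimensional F V]
    {W : Type w} [AddCommGroup W] [Module F W] [FiniteDimensional F W]
    {Q : QuadraticForm F V} {Q' : QuadraticForm F W} (hQ : (QuadraticMap.polarBilin Q).Nondegenerate)
    (hQ' : (QuadraticMap.polarBilin Q').Nondegenerate) (L : V ≃ₗ[F] W) (hL : ∀ v, Q' (L v) = Q v)
    (g : oGroup Q) : Spinor.spin (oTrans L hL g) = Spinor.spin g := by
  refine DFunLike.congr_fun (MonoidHom.eq_of_eqOn_dense (reflGroup_top h2 hQ)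
    (f := (Spinor.spinHom hQ' (reflGroup_top h2 hQ')).comp (oTrans L hL).toMonoidHom)
    (g := Spinor.spinHom hQ (reflGroup_top h2 hQ)) ?_) g
  rintro _ ⟨v, hv, rfl⟩
  have hv' : Q' (L v) ≠ 0 := by rw [hL]; exact hv
  have he : oTrans L hL (oRefl Q v hv) = oRefl Q' (L v) hv' := by
    refine Subtype.ext (LinearEquiv.ext fun x => ?_)
    obtain ⟨y, rfl⟩ := L.surjective x
    rw [oTrans_apply]
    show L (refl Q v hv y) = refl Q' (L v) hv' (L y)
    rw [refl_apply, refl_apply, map_sub, map_smul, hL]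
    congr 2
    simp only [QuadraticMap.polar, ← map_add, hL]
  show Spinor.spin (oTrans L hL (oRefl Q v hv)) = Spinor.spin (oRefl Q v hv)
  rw [he, Spinor.spin_oRefl hQ', Spinor.spin_oRefl hQ, hL]

theorem exists_refl_neg (h2 : (2 : F) ≠ 0) {V : Type v} [AddCommGroup V] [Module F V] [FiniteDimensional F V]
    {Q : QuadraticForm F V} (hQ : (QuadraticMap.polarBilin Q).Nondegenerate) (g : oGroup Q)
    (hg : Spinor.spin g = -1) : ∃ (w : V) (hw : Q w ≠ 0), Spinor.spin (oRefl Q w hw) = -1 := by
  by_contra hne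
  push Not at hne
  have h1 : Spinor.spinHom hQ (reflGroup_top h2 hQ) = 1 := by
    refine MonoidHom.eq_of_eqOn_dense (reflGroup_top h2 hQ) ?_
    rintro _ ⟨w, hw, rfl⟩
    exact (Int.units_eq_one_or _).resolve_right (hne w hw)
  have h := DFunLike.congr_fun h1 g
  rw [show Spinor.spinHom hQ (reflGroup_top h2 hQ) g = Spinor.spin g from rfl, hg, MonoidHom.one_apply] at h
  exact absurd h (by decide)

theorem dvd_half {G : Type*} [Monoid G] {g : G} {X : ℕ} (hX : Even X) (h : X ∣ orderOf g) {j : ℕ}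
    (hj : (g * g) ^ j = 1) : X / 2 ∣ j := by
  obtain ⟨x, rfl⟩ := hX
  rw [← pow_two, ← pow_mul] at hj
  have h1 := h.trans (orderOf_dvd_of_pow_eq_one hj)
  rw [← two_mul] at h1 ⊢
  rw [Nat.mul_div_cancel_left _ two_pos]
  exact Nat.dvd_of_mul_dvd_mul_left two_pos h1

/-- The module and the group. -/
theorem minus_range (p : ℕ) [hp : Fact p.Prime] [hchar : CharP F p] (h5 : 5 ≤ p) {a b : F}
    (hab : ∀ z₁ z₂ : F, z₁ ^ 2 + a * z₁ * z₂ + b * z₂ ^ 2 = 0 → z₁ = 0 ∧ z₂ = 0) (M : ℕ) :
    ∃ (H : Type) (_ : Group H) (_ : Fintype H), M < Fintype.card H ∧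
      Set.range (orderOf : H → ℕ) = {N | InB p (Fintype.card F) N} := by
  classical
  have h2 : (2 : F) ≠ 0 := fun h => by
    have h' : p ∣ 2 := (CharP.cast_eq_zero_iff F p 2).1 (by exact_mod_cast h)
    have := Nat.le_of_dvd two_pos h'
    omega
  set q := Fintype.card F with hq
  have hodd := odd_card (F := F) h2
  have hgenr := fun (e : ℕ) (he : 1 ≤ e) (s : Bool) =>
    (show Gen F s e from by cases s; exacts [gen_minus hab h2 he, gen_plus h2 he])
  obtain ⟨Q, hQ, hQn⟩ := OrthForms.exists_qMinus (F := F) 1 a b hab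
  haveI := finite_equiv (F := F) (V := MI 1 → F)
  let χ := Spinor.spinHom hQn (reflGroup_top h2 hQn)
  let G : Subgroup (oGroup Q) := χ.ker
  let ρ : G →* ((MI 1 → F) ≃ₗ[F] (MI 1 → F)) := (oGroup Q).subtype.comp G.subtype
  have hd : Module.finrank F (MI 1 → F) = 4 := by simp
  haveI : Nontrivial (MI 1 → F) := Function.nontrivial
  obtain ⟨H, i1, i2, hcard, hH⟩ := exists_large ρ p M
  refine ⟨H, i1, i2, hcard, hH.trans (range_eq ρ (InB p q) (fun N d => inB_dvd) ?_ ?_)⟩
  · intro g v
    by_cases hfix : ∀ w, g.1.1 w = w → w = 0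
    · refine ⟨orderOf g.1, four hab p h2 hQn g.1 hfix hd (MonoidHom.mem_ker.1 g.2),
        Subtype.ext (by rw [Subgroup.coe_pow, pow_orderOf_eq_one]; rfl), hfix _ ?_⟩
      have h := LinearMap.congr_fun (mul_geom_sum (en g.1.1) (orderOf g.1)) v
      rw [(pow_eq_one_iff_en g.1 _).1 (pow_orderOf_eq_one g.1), sub_self, LinearMap.zero_apply,
        Module.End.mul_apply, LinearMap.sub_apply, Module.End.one_apply] at h
      exact sub_eq_zero.1 h
    obtain ⟨U, W, e, he, gU, gW, hU, hW, heq, hnil, hWfix⟩ := exists_split hQn g.1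
    have hsum : Module.finrank F U + Module.finrank F W = Module.finrank F (MI 1 → F) := by
      rw [← Module.finrank_prod, e.finrank_eq]
    have hUpos : 0 < Module.finrank F U := by
      by_contra hzero
      haveI : Subsingleton U := (Module.finrank_zero_iff (R := F)).1 (by omega)
      refine hfix fun w hw => ?_
      obtain ⟨⟨x, y⟩, rfl⟩ := e.surjective w
      rw [heq, oTrans_apply] at hw
      have := e.injective hw
      rw [Subsingleton.elim x 0, hWfix y (congrArg Prod.snd this)]
      exact map_zero e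
    obtain ⟨s, hs⟩ := small_three p h2 hW gW hWfix (by omega)
    set N := p * torX q (1, s) with hN
    have hUp : gU ^ p ^ 1 = 1 := unip_pow p gU hnil (by rw [pow_one]; omega)
    have hUN : gU ^ N = 1 := by rw [hN, pow_mul]; rw [pow_one] at hUp; rw [hUp, one_pow]
    refine ⟨N, inB_tor s dvd_rfl, Subtype.ext ?_, ?_⟩
    · rw [Subgroup.coe_pow, heq, ← map_pow, ← map_pow, Prod.pow_mk, hUN, hs, Prod.mk_one_one, map_one, map_one]
      rfl
    obtain ⟨⟨x, y⟩, rfl⟩ := e.surjective v
    show (∑ l ∈ Finset.range N, (en g.1.1) ^ l) (e (x, y)) = 0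
    rw [heq, sum_oTrans, LinearEquiv.map_eq_zero_iff]
    refine Prod.ext ?_ ?_
    · have h1 : (∑ i ∈ Finset.range N, (en gU.1) ^ i) x = 0 := by
        have hz : (∑ i ∈ Finset.range (p ^ 1), (en gU.1) ^ i) x = 0 := by
          rw [geom_prime_pow p, nil_pow (en gU.1) hnil (by rw [pow_one]; omega), LinearMap.zero_apply]
        rw [pow_one] at hz hUp
        have hrep : ∀ l, (∑ i ∈ Finset.range (p * l), (en gU.1) ^ i) x = 0 := by
          intro l
          induction l with
          | zero => simp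
          | succ l ih =>
            rw [Nat.mul_succ, Finset.sum_range_add, LinearMap.add_apply, ih, zero_add, LinearMap.sum_apply]
            rw [LinearMap.sum_apply] at hz
            refine Eq.trans (Finset.sum_congr rfl fun i _ => ?_) hz
            rw [pow_add, pow_mul, (pow_eq_one_iff_en gU _).1 hUp, one_pow, one_mul]
        exact hrep _
      have e1 := inter_sum (LinearMap.fst F U W) (a := en (oProd (Q.comp U.subtype) (Q.comp W.subtype) (gU, gW)).1)
        (b := en gU.1) (fun _ => rfl) N (x, y)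
      simp only [LinearMap.fst_apply] at e1
      rw [e1, h1]
      rfl
    · have h1 : (∑ i ∈ Finset.range N, (en gW.1) ^ i) y = 0 := by
        refine hWfix _ (sub_eq_zero.1 ?_)
        have h := LinearMap.congr_fun (mul_geom_sum (en gW.1) N) y
        rw [(pow_eq_one_iff_en gW _).1 hs, sub_self, LinearMap.zero_apply, Module.End.mul_apply,
          LinearMap.sub_apply, Module.End.one_apply] at h
        exact h
      have e1 := inter_sum (LinearMap.snd F U W) (a := en (oProd (Q.comp U.subtype) (Q.comp W.subtype) (gU, gW)).1)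
        (b := en gW.1) (fun _ => rfl) N (x, y)
      simp only [LinearMap.snd_apply] at e1
      rw [e1, h1]
      rfl
  · -- attainment
    have mixed : ∀ (s : Bool) (N : ℕ), N ∣ p * torX q (1, !s) → ∃ g : G, ∃ v : MI 1 → F, ∀ j, g ^ j = 1 →
        (∑ l ∈ Finset.range j, (en (ρ g)) ^ l) v = 0 → N ∣ j := by
      intro s N hN
      obtain ⟨Q₁, h, hQ₁, d1, s1, o1⟩ := hgenr 1 le_rfl s
      obtain ⟨Q₂, g₂, hQ₂, d2, s2, -⟩ := hgenr 1 le_rfl (!s)
      obtain ⟨w, hw, hws⟩ := exists_refl_neg h2 hQ₂.1 g₂ s2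
      obtain ⟨v0, hv0, hv0w⟩ : ∃ v0, v0 ≠ 0 ∧ QuadraticMap.polar Q₂ v0 w = 0 := by
        obtain ⟨v0, hv0, hne⟩ := Submodule.exists_mem_ne_zero_of_ne_bot
          (LinearMap.ker_ne_bot_of_finrank_lt (f := (QuadraticMap.polarBilin Q₂).flip w)
            (by rw [Module.finrank_self, hQ₂.2.1]; norm_num))
        exact ⟨v0, hne, by simpa using hv0⟩
      have hS := sgn_prod hab le_rfl le_rfl hQ₁ hQ₂
      rw [show (s == !s) = false by cases s <;> rfl] at hS
      obtain ⟨L, hL⟩ := minus_of_sgn hab (by norm_num) hS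
      have hL' : ∀ v, Q (L v) = Q₁.prod Q₂ v := fun v => by rw [hQ]; exact hL v
      let x : oGroup Q := oTrans L hL' (oProd Q₁ Q₂ (h, oRefl Q₂ w hw))
      refine ⟨⟨x, MonoidHom.mem_ker.2 ?_⟩, L (0, v0), fun j hj hsum => hN.trans ?_⟩
      · show Spinor.spin x = 1
        rw [spin_oTrans h2 (OrthClasses.prod_nondeg hQ₁.1 hQ₂.1) hQn, (inv_oProd h2 hQ₁.1 hQ₂.1 _ _).2, s1, hws]
        rfl
      have hj' : h ^ j = 1 ∧ oRefl Q₂ w hw ^ j = 1 := by
        have h0 : x ^ j = 1 := congrArg Subtype.val hj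
        rw [← map_pow, ← map_pow, MulEquiv.map_eq_one_iff, ← map_one (oProd Q₁ Q₂)] at h0
        simpa [Prod.ext_iff] using oProd_injective _ _ h0
      have hpj : p ∣ j := by
        have h0 : (∑ l ∈ Finset.range j, (en x.1) ^ l) (L (0, v0)) = 0 := hsum
        rw [sum_oTrans, LinearEquiv.map_eq_zero_iff] at h0
        have e1 := inter_sum (LinearMap.snd F _ _) (a := en (oProd Q₁ Q₂ (h, oRefl Q₂ w hw)).1)
          (b := en (oRefl Q₂ w hw).1) (fun _ => rfl) j (((0 : Fin (2 * 1) → F)), v0)
        rw [h0, map_zero] at e1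
        have hfx : ∀ l, ((en (oRefl Q₂ w hw).1) ^ l) v0 = v0 := by
          intro l
          induction l with
          | zero => rfl
          | succ l ih =>
            rw [pow_succ', Module.End.mul_apply, ih]
            show refl Q₂ w hw v0 = v0
            simp [refl_apply, hv0w]
        rw [LinearMap.sum_apply] at e1
        simp only [LinearMap.snd_apply, hfx, Finset.sum_const, Finset.card_range] at e1
        rw [← Nat.cast_smul_eq_nsmul F] at e1
        exact (CharP.cast_eq_zero_iff F p j).1 ((smul_eq_zero.1 e1.symm).resolve_right hv0)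
      refine (coprime_of_tor p s).mul_dvd_of_dvd_of_dvd hpj ?_
      refine dvd_trans ?_ (orderOf_dvd_of_pow_eq_one hj'.1)
      cases s <;> simpa [torX] using o1
    intro N hN
    rcases hN with h | h | h | h | h
    · obtain ⟨Q₁, g, hQ₁, -, -, o1⟩ := hgenr 2 (by norm_num) false
      obtain ⟨L, hL⟩ := minus_of_sgn hab (by norm_num) hQ₁
      have hL' : ∀ v, Q (L v) = Q₁ v := fun v => by rw [hQ]; exact hL v
      let t : oGroup Q := oTrans L hL' g
      refine ⟨⟨t * t, MonoidHom.mem_ker.2 ?_⟩, 0, fun j hj _ => h.trans ?_⟩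
      · rw [map_mul]; exact Int.units_mul_self _
      · refine dvd_half hodd.pow.add_one (g := t) ?_ (congrArg Subtype.val hj)
        simpa [t, MulEquiv.orderOf_eq] using o1
    · obtain ⟨Q₁, g₁, hQ₁, d1, s1, o1⟩ := hgenr 1 le_rfl true
      obtain ⟨Q₂, g₂, hQ₂, d2, s2, o2⟩ := hgenr 1 le_rfl false
      have hS := sgn_prod hab le_rfl le_rfl hQ₁ hQ₂
      rw [show (true == false) = false from rfl] at hS
      obtain ⟨L, hL⟩ := minus_of_sgn hab (by norm_num) hS
      have hL' : ∀ v, Q (L v) = Q₁.prod Q₂ v := fun v => by rw [hQ]; exact hL v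
      let t : oGroup Q := oTrans L hL' (oProd Q₁ Q₂ (g₁, g₂))
      refine ⟨⟨t, MonoidHom.mem_ker.2 ?_⟩, 0, fun j hj _ => h.trans ?_⟩
      · show Spinor.spin t = 1
        rw [spin_oTrans h2 (OrthClasses.prod_nondeg hQ₁.1 hQ₂.1) hQn, (inv_oProd h2 hQ₁.1 hQ₂.1 _ _).2, s1, s2]
        rfl
      · rw [half_sub q hodd]
        refine dvd_trans ?_ (orderOf_dvd_of_pow_eq_one (congrArg Subtype.val hj : t ^ j = 1))
        rw [MulEquiv.orderOf_eq, orderOf_oProd]
        exact Nat.lcm_dvd ((show q - 1 ∣ orderOf g₁ by simpa using o1).trans (Nat.dvd_lcm_left _ _))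
          ((show q + 1 ∣ orderOf g₂ by simpa using o2).trans (Nat.dvd_lcm_right _ _))
    · exact mixed false N (by simpa [torX] using h)
    · exact mixed true N (by simpa [torX] using h)
    · refine mixed false N (h.trans ?_)
      rw [Nat.clog_eq_one (by norm_num) (by omega), pow_one]
      exact dvd_mul_right _ _
where
  coprime_of_tor (p : ℕ) [hp : Fact p.Prime] [CharP F p] (s : Bool) :
      Nat.Coprime p (torX (Fintype.card F) (1, !s)) := by
    refine (hp.out.coprime_iff_not_dvd).2 fun hd => ?_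
    have h0 := (CharP.cast_eq_zero_iff F p _).2 hd
    have hq : (Fintype.card F : F) = 0 := Nat.cast_card_eq_zero F
    have h1 : 1 ≤ Fintype.card F := Fintype.card_pos
    cases s
    · simp [torX, hq] at h0
    · simp [torX, Nat.cast_sub h1, hq] at h0

end Cfsg.Agent.PSpFour
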