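import Cfsg.Agent.Lib.PSpFourSpec.Geom
import Cfsg.Agent.Lib.FormTorus.SymplecticOrders
import Cfsg.Agent.Lib.GLOrders.PrimeGraphP
import Cfsg.Agent.S0301

/-!
The element orders of `PSp(4, q)` for odd `q`.
-/

set_option autoImplicit false
set_option linter.unusedSectionVars false
set_option maxHeartbeats 1000000

namespace Cfsg.Agent.PSpFour

open FormsLib FormTorus SpEightEven SpinNine

universe u

variable {F : Type u} [Field F] [Fintype F] (p : ℕ) [hp : Fact p.Prime] [hchar : CharP F p]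
  (h2 : (2 : F) ≠ 0)
include hp hchar h2

theorem coprime_torX (s : Bool) : Nat.Coprime p (torX (Fintype.card F) (1, s)) := by
  refine (hp.out.coprime_iff_not_dvd).2 fun hd => ?_
  have h0 := (CharP.cast_eq_zero_iff F p _).2 hd
  have hq : (Fintype.card F : F) = 0 := Nat.cast_card_eq_zero F
  have h1 : 1 ≤ Fintype.card F := Fintype.card_pos
  cases s
  · simp [torX, Nat.cast_sub h1, hq] at h0
  · simp [torX, hq] at h0

omit hp hchar in
theorem end_one_ne_neg {V : Type u} [AddCommGroup V] [Module F V] [Nontrivial V] :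
    (1 : Module.End F V) ≠ -1 := fun h => by
  obtain ⟨v, hv⟩ := exists_ne (0 : V)
  have h' : v = -v := LinearMap.congr_fun h v
  exact hv ((smul_eq_zero.1 (show (2 : F) • v = 0 by rw [two_smul]; exact eq_neg_iff_add_eq_zero.1 h')).resolve_left h2)

theorem upper (y : Cfsg.PSp 2 F) : InB p (Fintype.card F) (orderOf y) := by
  classical
  obtain ⟨e⟩ := S0301.result (F := F) (odd_card h2)
  obtain ⟨a, b, hab⟩ := Spinor.exists_aniso F
  suffices ∀ z : Cfsg.POmega F (Cfsg.quadFormOdd 2 F), InB p (Fintype.card F) (orderOf z) by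
    have h := this (e.symm y)
    rwa [MulEquiv.orderOf_eq] at h
  rw [← coe_qOdd]
  intro z
  obtain ⟨c, rfl⟩ := QuotientGroup.mk_surjective z
  refine inB_dvd (five hab p h2 (qOdd_nondeg h2) (by simp) (oEquiv (qOdd 2 F) c.1)
    ((Spinor.mem_Omega_iff _ _).1 c.2)) ?_
  rw [MulEquiv.orderOf_eq, Subgroup.orderOf_coe]
  exact orderOf_map_dvd (QuotientGroup.mk' (Subgroup.center (Cfsg.Omega F ⇑(qOdd 2 F)))) c

theorem attain_unip : ∃ x : Cfsg.PSp 2 F, p ^ Nat.clog p 4 ∣ orderOf x := by
  obtain ⟨g, hg, hgj⟩ := exists_unipotent_iso (F := F) p h2 (m := 2) (d := p ^ Nat.clog p 4) (by norm_num) dvd_rfl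
  obtain ⟨x, hx⟩ := exists_psp (spB_alt (m := 2) (F := F)) spB_nondeg (m := 2) (by simp) g hg
  refine ⟨x, (hgj _).1 ?_⟩
  rcases (hx _).1 (pow_orderOf_eq_one x) with h | h
  · exact h
  · exfalso
    have hd : p ^ Nat.clog p 4 ∣ orderOf x * 2 := (hgj _).1 (by
      rw [pow_mul, show en g ^ orderOf x = -1 from h, sq]; exact LinearMap.ext fun v => neg_neg v)
    have hd' := (Nat.Coprime.pow_left _ (Nat.coprime_two_right.2 (odd_p (F := F) p h2))).dvd_of_dvd_mul_right hd
    exact end_one_ne_neg h2 (((hgj _).2 hd').symm.trans h)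

theorem attain_mixed (s : Bool) : ∃ x : Cfsg.PSp 2 F, p * torX (Fintype.card F) (1, s) ∣ orderOf x := by
  set X := torX (Fintype.card F) (1, s) with hX
  obtain ⟨g₁, hg₁, hg₁j, -⟩ := exists_torus_iso (F := F) p h2 (e := 1) (o := X) le_rfl (by
    cases s <;> simp [hX, torX, Nat.card_eq_fintype_card])
  obtain ⟨g₂, hg₂, hg₂j⟩ := exists_unipotent_iso (F := F) p h2 (m := 1) (d := p) le_rfl (by
    rw [show Nat.clog p (2 * 1) = 1 from Nat.clog_eq_one le_rfl hp.out.two_le, pow_one])
  have hflip : IsFlipForm (RingHom.id F) (-1) (spB 1 F) :=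
    ⟨(spB_trace (m := 1) (F := F)).flip, (spB_trace (m := 1) (F := F)).nondeg⟩
  obtain ⟨hA, hN⟩ := isAlt_of_isFlip h2 (prodB_isFlip hflip hflip)
  obtain ⟨x, hx⟩ := exists_psp hA hN (m := 2) (by rw [Module.finrank_prod]; simp) (g₁.prodCongr g₂)
    (preserves_prodCongr hg₁ hg₂)
  have hpow : ∀ (j : ℕ) v, (en (g₁.prodCongr g₂) ^ j) v = ((en g₁ ^ j) v.1, (en g₂ ^ j) v.2) := by
    intro j
    induction j with
    | zero => intro v; simp
    | succ j ih =>
      intro v
      rw [pow_succ, Module.End.mul_apply, ih, pow_succ, pow_succ]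
      rfl
  refine ⟨x, (coprime_torX p h2 s).mul_dvd_of_dvd_of_dvd ?_ ?_⟩
  · rcases (hx _).1 (pow_orderOf_eq_one x) with h | h
    · exact (hg₂j _).1 (LinearMap.ext fun v => by
        have h1 := congrArg Prod.snd ((hpow _ (0, v)).symm.trans (LinearMap.congr_fun h (0, v)))
        simpa using h1)
    · exfalso
      have h1 : en g₂ ^ orderOf x = -1 := LinearMap.ext fun v => by
        have h1 := congrArg Prod.snd ((hpow _ (0, v)).symm.trans (LinearMap.congr_fun h (0, v)))
        simpa using h1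
      have hd : p ∣ orderOf x * 2 := (hg₂j _).1 (by rw [pow_mul, h1, sq]; exact LinearMap.ext fun v => neg_neg v)
      have hd' := (Nat.coprime_two_right.2 (odd_p (F := F) p h2)).dvd_of_dvd_mul_right hd
      exact end_one_ne_neg h2 (((hg₂j _).2 hd').symm.trans h1)
  · rcases (hx _).1 (pow_orderOf_eq_one x) with h | h
    · exact (hg₁j _).1 (LinearMap.ext fun v => by
        have h1 := congrArg Prod.fst ((hpow _ (v, 0)).symm.trans (LinearMap.congr_fun h (v, 0)))
        simpa using h1)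
    · exfalso
      have h1 : en g₂ ^ orderOf x = -1 := LinearMap.ext fun v => by
        have h1 := congrArg Prod.snd ((hpow _ (0, v)).symm.trans (LinearMap.congr_fun h (0, v)))
        simpa using h1
      have hd : p ∣ orderOf x * 2 := (hg₂j _).1 (by rw [pow_mul, h1, sq]; exact LinearMap.ext fun v => neg_neg v)
      have hd' := (Nat.coprime_two_right.2 (odd_p (F := F) p h2)).dvd_of_dvd_mul_right hd
      exact end_one_ne_neg h2 (((hg₂j _).2 hd').symm.trans h1)

theorem attain {N : ℕ} (h : InB p (Fintype.card F) N) : ∃ x : Cfsg.PSp 2 F, N ∣ orderOf x := by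
  have hodd := (odd_card (F := F) h2).pow (n := 2)
  rcases h with h | h | h | h | h
  · obtain ⟨x, hx⟩ := exists_torus_psp (F := F) p h2 (n := 2) (o := Fintype.card F ^ 2 + 1) (by norm_num)
      (Or.inl (by rw [Nat.card_eq_fintype_card]))
    rw [if_pos hodd.add_one] at hx
    exact ⟨x, hx ▸ h⟩
  · obtain ⟨x, hx⟩ := exists_torus_psp (F := F) p h2 (n := 2) (o := Fintype.card F ^ 2 - 1) (by norm_num)
      (Or.inr (by rw [Nat.card_eq_fintype_card]))
    rw [if_pos (Nat.Odd.sub_odd hodd odd_one)] at hx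
    exact ⟨x, hx ▸ h⟩
  · obtain ⟨x, hx⟩ := attain_mixed p h2 true
    exact ⟨x, h.trans (by simpa [torX] using hx)⟩
  · obtain ⟨x, hx⟩ := attain_mixed p h2 false
    exact ⟨x, h.trans (by simpa [torX] using hx)⟩
  · obtain ⟨x, hx⟩ := attain_unip p h2
    exact ⟨x, h.trans hx⟩

theorem psp_range :
    Set.range (orderOf : Cfsg.PSp 2 F → ℕ) = {N | InB p (Fintype.card F) N} := by
  ext N
  constructor
  · rintro ⟨y, rfl⟩
    exact upper p h2 y
  · intro h
    obtain ⟨x, hx⟩ := attain p h2 h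
    exact GLOrders.mem_range_orderOf_of_dvd x hx

end Cfsg.Agent.PSpFour
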