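import Cfsg.Agent.Lib.Recog.FiveTwoFrobenius
import Cfsg.Agent.Lib.Recog.Spectrum

/-!
Arbitrarily large groups with the element orders of `A ⋊ (5 : 4)`.
-/

set_option autoImplicit false

namespace Cfsg.Agent.PSpFour

open Recog

theorem exists_large_q_three (M : ℕ) :
    ∃ (H : Type) (_ : Group H) (_ : Fintype H), M < Fintype.card H ∧
      Set.range (orderOf : H → ℕ) = Set.range (orderOf : FiveTwoFrobenius.H → ℕ) := by
  classical
  let φ : FiveTwoFrobenius.K →* MulAut FiveTwoFrobenius.A := FiveTwoFrobenius.act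
  let E := (Fin (M + 1) → FiveTwoFrobenius.A) ⋊[piAut φ (Fin (M + 1))] FiveTwoFrobenius.K
  haveI : Finite FiveTwoFrobenius.H := Finite.of_equiv _ SemidirectProduct.equivProd.symm
  haveI : Finite E := Finite.of_equiv _ SemidirectProduct.equivProd.symm
  have key : Set.range (orderOf : E → ℕ) = Set.range (orderOf : FiveTwoFrobenius.H → ℕ) := by
    refine Set.Subset.antisymm ?_ ?_
    · rintro _ ⟨x, rfl⟩
      let y : Fin (M + 1) → FiveTwoFrobenius.H := fun i => piProj φ _ i x
      set n := orderOf x.right with hn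
      have h9 : ∀ i, (y i) ^ (n * 9) = 1 := fun i => by
        have hr : ((y i) ^ n).right = 1 := by
          show SemidirectProduct.rightHom ((y i) ^ n) = 1
          rw [map_pow]
          show x.right ^ n = 1
          exact pow_orderOf_eq_one _
        rw [pow_mul, FiveTwoFrobenius.eq_inl hr, ← map_pow, FiveTwoFrobenius.A.pow_nine, map_one]
      have hshape : ∀ i, ∃ e, orderOf (y i) = n * 3 ^ e := fun i => by
        obtain ⟨d, hd⟩ : n ∣ orderOf (y i) := orderOf_map_dvd SemidirectProduct.rightHom (y i)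
        have hd9 : d ∣ 3 ^ 2 := Nat.dvd_of_mul_dvd_mul_left (orderOf_pos x.right)
          (by rw [← hd]; exact orderOf_dvd_of_pow_eq_one (h9 i))
        obtain ⟨e, -, rfl⟩ := (Nat.dvd_prime_pow Nat.prime_three).1 hd9
        exact ⟨e, hd⟩
      choose e he using hshape
      obtain ⟨i, -, hi⟩ := Finset.exists_max_image Finset.univ e Finset.univ_nonempty
      refine ⟨y i, Nat.dvd_antisymm (orderOf_map_dvd (piProj φ _ i) x) (orderOf_dvd_of_pow_eq_one ?_)⟩
      have hall : ∀ j, (y j) ^ orderOf (y i) = 1 := fun j => orderOf_dvd_iff_pow_eq_one.1 (by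
        rw [he i, he j]
        exact Nat.mul_dvd_mul_left _ (pow_dvd_pow 3 (hi j (Finset.mem_univ _))))
      refine SemidirectProduct.ext ?_ ?_
      · funext j
        have := congrArg SemidirectProduct.left (hall j)
        rw [← map_pow] at this
        exact this
      · have := congrArg SemidirectProduct.right (hall i)
        rw [← map_pow] at this
        exact this
    · rintro _ ⟨x, rfl⟩
      exact ⟨piConst φ (Fin (M + 1)) x, orderOf_injective (piConst φ (Fin (M + 1)))
        (fun a b hab => (congrArg (piProj φ (Fin (M + 1)) 0) hab :)) x⟩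
  obtain ⟨H, i1, i2, ⟨e⟩⟩ := exists_type_zero (G := E)
  refine ⟨H, i1, i2, ?_, (range_orderOf_congr e).trans key⟩
  rw [← Nat.card_eq_fintype_card, Nat.card_congr e.toEquiv, SemidirectProduct.card, Nat.card_fun,
    Nat.card_fin]
  haveI : Nontrivial FiveTwoFrobenius.A :=
    ⟨⟨1, ⟨1, 0, 0, 0, 0, 0, 0⟩, fun h => zero_ne_one (congrArg FiveTwoFrobenius.A.x h)⟩⟩
  calc M < 2 ^ (M + 1) := lt_trans (Nat.lt_succ_self M) Nat.lt_two_pow_self
    _ ≤ Nat.card FiveTwoFrobenius.A ^ (M + 1) := Nat.pow_le_pow_left Finite.one_lt_card _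
    _ ≤ Nat.card FiveTwoFrobenius.A ^ (M + 1) * Nat.card FiveTwoFrobenius.K :=
        Nat.le_mul_of_pos_right _ Nat.card_pos

end Cfsg.Agent.PSpFour
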