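import Cfsg.Agent.Lib.PSpFourSpec.Ext
import Cfsg.Agent.Lib.Recog.PGLTwoOrders

/-!
Twisted tensor powers of the natural module of `SL(2, q)` and eigenvalues of fixed vectors.
-/

set_option autoImplicit false
set_option linter.unusedSectionVars false

namespace Cfsg.Agent.PSpFour

open Matrix FormTorus Recog

variable (p : ℕ) [hp : Fact p.Prime] {m : ℕ} (a : Fin m → ℕ)

/-- The tensor product of Frobenius twists of the natural module. -/
def ten {L : Type*} [CommRing L] (M : Matrix (Fin 2) (Fin 2) L) :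
    Matrix (Fin m → Fin 2) (Fin m → Fin 2) L :=
  fun i j => ∏ l, M (i l) (j l) ^ p ^ a l

theorem ten_map {L L' : Type*} [CommRing L] [CommRing L'] (φ : L →+* L') (M : Matrix (Fin 2) (Fin 2) L) :
    (ten p a M).map φ = ten p a (M.map φ) := by
  ext i j
  simp [ten, Matrix.map_apply, map_prod, map_pow]

theorem ten_mul {L : Type*} [CommRing L] [CharP L p] (A B : Matrix (Fin 2) (Fin 2) L) :
    ten p a (A * B) = ten p a A * ten p a B := by
  haveI : ExpChar L p := ExpChar.prime hp.out
  ext i j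
  simp only [ten, Matrix.mul_apply, ← Finset.prod_mul_distrib, ← mul_pow]
  simp only [sum_pow_char_pow]
  rw [Finset.prod_univ_sum]
  rfl

theorem ten_diagonal {L : Type*} [CommRing L] (d : Fin 2 → L) :
    ten p a (Matrix.diagonal d) = Matrix.diagonal fun i => ∏ l, d (i l) ^ p ^ a l := by
  ext i j
  rcases eq_or_ne i j with rfl | h
  · rw [Matrix.diagonal_apply_eq]
    exact Finset.prod_congr rfl fun l _ => by rw [Matrix.diagonal_apply_eq]
  · rw [Matrix.diagonal_apply_ne _ h]
    obtain ⟨l, hl⟩ := Function.ne_iff.1 h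
    exact Finset.prod_eq_zero (Finset.mem_univ l) (by
      rw [Matrix.diagonal_apply_ne _ hl, zero_pow (pow_ne_zero _ hp.out.ne_zero)])

theorem ten_one {L : Type*} [CommRing L] : ten p a (1 : Matrix (Fin 2) (Fin 2) L) = 1 := by
  rw [← Matrix.diagonal_one, ten_diagonal, ← Matrix.diagonal_one]
  simp

variable {K : Type} [Field K] [CharP K p]

/-- The module as a representation of `SL(2, K)`. -/
noncomputable def slRep : Matrix.SpecialLinearGroup (Fin 2) K →* ((Fin m → Fin 2) → K) ≃ₗ[K] ((Fin m → Fin 2) → K) where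
  toFun M := LinearEquiv.ofLinearMap (Matrix.toLin' (ten p a (M : Matrix (Fin 2) (Fin 2) K)))
    (Matrix.toLin' (ten p a ((M⁻¹ : Matrix.SpecialLinearGroup (Fin 2) K) : Matrix (Fin 2) (Fin 2) K)))
    (by rw [← Matrix.toLin'_mul, ← ten_mul, ← Matrix.SpecialLinearGroup.coe_mul, mul_inv_cancel,
      Matrix.SpecialLinearGroup.coe_one, ten_one, Matrix.toLin'_one])
    (by rw [← Matrix.toLin'_mul, ← ten_mul, ← Matrix.SpecialLinearGroup.coe_mul, inv_mul_cancel,
      Matrix.SpecialLinearGroup.coe_one, ten_one, Matrix.toLin'_one])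
  map_one' := LinearEquiv.ext fun v => by
    show Matrix.toLin' (ten p a ((1 : Matrix.SpecialLinearGroup (Fin 2) K) : Matrix (Fin 2) (Fin 2) K)) v = v
    rw [Matrix.SpecialLinearGroup.coe_one, ten_one, Matrix.toLin'_one]
    rfl
  map_mul' M N := LinearEquiv.ext fun v => by
    show Matrix.toLin' (ten p a _) v = Matrix.toLin' (ten p a _) (Matrix.toLin' (ten p a _) v)
    rw [Matrix.SpecialLinearGroup.coe_mul, ten_mul, Matrix.toLin'_mul]
    rfl

theorem slRep_apply (M : Matrix.SpecialLinearGroup (Fin 2) K) (v : (Fin m → Fin 2) → K) :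
    slRep p a M v = ten p a (M : Matrix (Fin 2) (Fin 2) K) *ᵥ v := rfl

variable [Fintype K]

variable (K) in
/-- The hypothesis that scalars act trivially. -/
def Triv : Prop := ∀ c : K, c * c = 1 → ∏ l : Fin m, c ^ p ^ a l = 1

theorem center_le (h : Triv p a K) :
    Subgroup.center (Matrix.SpecialLinearGroup (Fin 2) K) ≤ (slRep p a).ker := by
  intro M hM
  obtain ⟨c, hc⟩ := (PGLTwo.sl_mk_eq_one_iff M).1 ((QuotientGroup.eq_one_iff M).2 hM)
  have hdet : c * c = 1 := by
    have h1 := M.det_coe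
    rw [hc, Matrix.det_smul, Matrix.det_one, Fintype.card_fin, mul_one, sq] at h1
    exact h1
  refine MonoidHom.mem_ker.2 (LinearEquiv.ext fun v => ?_)
  rw [slRep_apply, hc, Matrix.smul_one_eq_diagonal, ten_diagonal, h c hdet, Matrix.diagonal_one,
    Matrix.one_mulVec]
  rfl

/-- The module as a representation of `PSL(2, K)`. -/
noncomputable def pRep (h : Triv p a K) :
    Matrix.ProjectiveSpecialLinearGroup (Fin 2) K →* ((Fin m → Fin 2) → K) ≃ₗ[K] ((Fin m → Fin 2) → K) :=
  QuotientGroup.lift _ (slRep p a) (center_le p a h)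

theorem pRep_apply (h : Triv p a K) (M : Matrix.SpecialLinearGroup (Fin 2) K) (v : (Fin m → Fin 2) → K) :
    pRep p a h (QuotientGroup.mk M) v = ten p a (M : Matrix (Fin 2) (Fin 2) K) *ᵥ v := rfl

omit hp in
/-- The sum over several periods. -/
theorem sum_periods {V : Type*} [AddCommGroup V] [Module K V] (T : Module.End K V) {n : ℕ}
    (hT : T ^ n = 1) (l : ℕ) :
    ∑ i ∈ Finset.range (n * l), T ^ i = (l : K) • ∑ i ∈ Finset.range n, T ^ i := by
  induction l with
  | zero => simp
  | succ l ih =>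
    rw [Nat.mul_succ, Finset.sum_range_add, ih, Nat.cast_succ, add_smul, one_smul]
    congr 1
    exact Finset.sum_congr rfl fun i _ => by rw [pow_add, pow_mul, hT, one_pow, one_mul]

theorem rep_pow {G : Type*} [Group G] {V : Type*} [AddCommGroup V] [Module K V]
    (ρ : G →* (V ≃ₗ[K] V)) {g : G} {n : ℕ} (hg : g ^ n = 1) : (en (ρ g)) ^ n = 1 := by
  rw [← en_pow, ← map_pow, hg, map_one]
  rfl

/-- Elements bounded by `p` times a period. -/
theorem sum_mul_char {G : Type*} [Group G] {V : Type*} [AddCommGroup V] [Module K V]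
    (ρ : G →* (V ≃ₗ[K] V)) {g : G} {n : ℕ} (hg : g ^ n = 1) (v : V) :
    (∑ i ∈ Finset.range (n * p), (en (ρ g)) ^ i) v = 0 := by
  rw [sum_periods _ (rep_pow ρ hg), CharP.cast_eq_zero, zero_smul, LinearMap.zero_apply]

omit hp in
theorem sum_of_fixed_zero {G : Type*} [Group G] {V : Type*} [AddCommGroup V] [Module K V]
    (ρ : G →* (V ≃ₗ[K] V)) {g : G} {n : ℕ} (hg : g ^ n = 1) (hfix : ∀ v, ρ g v = v → v = 0) (v : V) :
    (∑ i ∈ Finset.range n, (en (ρ g)) ^ i) v = 0 := by
  refine hfix _ (sub_eq_zero.1 ?_)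
  have h := LinearMap.congr_fun (mul_geom_sum (en (ρ g)) n) v
  rw [rep_pow ρ hg, sub_self, LinearMap.zero_apply, Module.End.mul_apply, LinearMap.sub_apply,
    Module.End.one_apply] at h
  exact h

/-- Trace two up to sign, or two distinct eigenvalues in the algebraic closure. -/
theorem double_or_diag (M : Matrix.SpecialLinearGroup (Fin 2) K) :
    (∃ c : K, (M : Matrix (Fin 2) (Fin 2) K).trace = 2 * c ∧ c * c = 1) ∨
    ∃ (μ : AlgebraicClosure K) (P : Matrix (Fin 2) (Fin 2) (AlgebraicClosure K)),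
      μ ≠ 0 ∧ μ ^ 2 ≠ 1 ∧ P.det ≠ 0 ∧
      μ + μ⁻¹ = algebraMap K (AlgebraicClosure K) (M : Matrix (Fin 2) (Fin 2) K).trace ∧
      (M : Matrix (Fin 2) (Fin 2) K).map (algebraMap K (AlgebraicClosure K)) * P =
        P * Matrix.diagonal ![μ, μ⁻¹] := by
  set L := AlgebraicClosure K
  set f := algebraMap K L
  set t := (M : Matrix (Fin 2) (Fin 2) K).trace with ht
  by_cases hdbl : ∃ c : K, t = 2 * c ∧ c * c = 1
  · exact Or.inl hdbl
  right
  have htt : t = (M : Matrix (Fin 2) (Fin 2) K) 0 0 + (M : Matrix (Fin 2) (Fin 2) K) 1 1 :=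
    Matrix.trace_fin_two _
  have hdet := M.det_coe
  rw [Matrix.det_fin_two] at hdet
  set a0 := (M : Matrix (Fin 2) (Fin 2) K) 0 0
  set b0 := (M : Matrix (Fin 2) (Fin 2) K) 0 1
  set c0 := (M : Matrix (Fin 2) (Fin 2) K) 1 0
  set d0 := (M : Matrix (Fin 2) (Fin 2) K) 1 1
  have hroot : ∀ μ : L, μ * μ - f t * μ + 1 = 0 → μ ≠ 0 ∧ μ ^ 2 ≠ 1 ∧ μ + μ⁻¹ = f t ∧ μ⁻¹ = f t - μ := by
    intro μ hμ
    have hμ0 : μ ≠ 0 := fun h => by rw [h] at hμ; simp at hμ
    have hinv : μ⁻¹ = f t - μ := inv_eq_of_mul_eq_one_right (by linear_combination -hμ)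
    refine ⟨hμ0, fun h => hdbl ?_, by rw [hinv]; ring, hinv⟩
    have hinv' : μ⁻¹ = μ := inv_eq_of_mul_eq_one_right (by rw [← sq]; exact h)
    rcases mul_self_eq_one_iff.1 (show μ * μ = 1 by rw [← sq]; exact h) with rfl | rfl
    · refine ⟨1, f.injective ?_, mul_one 1⟩
      rw [mul_one, map_ofNat]
      rw [hinv'] at hinv
      linear_combination -hinv
    · refine ⟨-1, f.injective ?_, by ring⟩
      rw [map_mul, map_ofNat, map_neg, map_one]
      rw [hinv'] at hinv
      linear_combination -hinv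
  obtain ⟨μ, hμ⟩ := IsAlgClosed.exists_eval₂_eq_zero_of_injective f f.injective
    (Polynomial.X ^ 2 - Polynomial.C t * Polynomial.X + 1 : Polynomial K) (fun h => by
      have h0 := Polynomial.natDegree_eq_of_degree_eq_some h
      have h2 : (Polynomial.X ^ 2 - Polynomial.C t * Polynomial.X + 1 : Polynomial K).natDegree = 2 := by
        compute_degree!
      rw [h0] at h2
      exact absurd h2.symm two_ne_zero)
  have hμ' : μ * μ - f t * μ + 1 = 0 := by simpa [sq] using hμ
  by_cases hb : b0 = 0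
  · by_cases hc : c0 = 0
    · have ha : a0 * d0 = 1 := by rw [hb] at hdet; linear_combination hdet
      obtain ⟨h0, h1, h2, h3⟩ := hroot (f a0) (by
        have : f (a0 * d0) = 1 := by rw [ha, map_one]
        rw [map_mul] at this
        rw [htt, map_add]
        linear_combination -this)
      refine ⟨f a0, 1, h0, h1, by simp, h2, ?_⟩
      rw [mul_one, one_mul, h3, htt, map_add]
      ext i j
      fin_cases i <;> fin_cases j
      · simp [a0]
      · simpa using (congrArg f hb).trans (map_zero f)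
      · simpa using (congrArg f hc).trans (map_zero f)
      · simp [d0]
    · obtain ⟨h0, h1, h2, h3⟩ := hroot μ hμ'
      refine ⟨μ, !![μ - f d0, μ⁻¹ - f d0; f c0, f c0], h0, h1, ?_, h2, ?_⟩
      · rw [Matrix.det_fin_two_of]
        intro h
        refine h1 ?_
        have hc' : f c0 ≠ 0 := (map_ne_zero f).2 hc
        have he : μ - μ⁻¹ = 0 := mul_left_cancel₀ hc' (by linear_combination h)
        rw [sq]
        nth_rewrite 2 [sub_eq_zero.1 he]
        exact mul_inv_cancel₀ h0
      · rw [h3, htt, map_add]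
        rw [htt, map_add] at hμ'
        have hd' : f a0 * f d0 - f b0 * f c0 = 1 := by rw [← map_mul, ← map_mul, ← map_sub, hdet, map_one]
        have ea : f ((M : Matrix (Fin 2) (Fin 2) K) 0 0) = f a0 := rfl
        have eb : f ((M : Matrix (Fin 2) (Fin 2) K) 0 1) = f b0 := rfl
        have ec : f ((M : Matrix (Fin 2) (Fin 2) K) 1 0) = f c0 := rfl
        have ed : f ((M : Matrix (Fin 2) (Fin 2) K) 1 1) = f d0 := rfl
        ext i j
        fin_cases i <;> fin_cases j <;>
          simp [Matrix.mul_apply, Fin.sum_univ_two, Matrix.map_apply, ea, eb, ec, ed] <;>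
          first
          | ring1
          | linear_combination -hd' - hμ'
  · obtain ⟨h0, h1, h2, h3⟩ := hroot μ hμ'
    refine ⟨μ, !![f b0, f b0; μ - f a0, μ⁻¹ - f a0], h0, h1, ?_, h2, ?_⟩
    · rw [Matrix.det_fin_two_of]
      intro h
      refine h1 ?_
      have hb' : f b0 ≠ 0 := (map_ne_zero f).2 hb
      have he : μ - μ⁻¹ = 0 := mul_left_cancel₀ hb' (by linear_combination -h)
      rw [sq]
      nth_rewrite 2 [sub_eq_zero.1 he]
      exact mul_inv_cancel₀ h0
    · rw [h3, htt, map_add]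
      rw [htt, map_add] at hμ'
      have hd' : f a0 * f d0 - f b0 * f c0 = 1 := by rw [← map_mul, ← map_mul, ← map_sub, hdet, map_one]
      have ea : f ((M : Matrix (Fin 2) (Fin 2) K) 0 0) = f a0 := rfl
      have eb : f ((M : Matrix (Fin 2) (Fin 2) K) 0 1) = f b0 := rfl
      have ec : f ((M : Matrix (Fin 2) (Fin 2) K) 1 0) = f c0 := rfl
      have ed : f ((M : Matrix (Fin 2) (Fin 2) K) 1 1) = f d0 := rfl
      ext i j
      fin_cases i <;> fin_cases j <;>
        simp [Matrix.mul_apply, Fin.sum_univ_two, Matrix.map_apply, ea, eb, ec, ed] <;>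
        first
        | ring1
        | linear_combination -hd' - hμ'

omit hp in
/-- A fixed vector of a diagonalisable matrix gives a trivial eigenvalue. -/
theorem exists_weight_one {L : Type*} [Field L] {ι : Type*} [Fintype ι] [DecidableEq ι]
    {A P : Matrix ι ι L} {d : ι → L} (hP : IsUnit P.det) (h : A * P = P * Matrix.diagonal d)
    {v : ι → L} (hv : v ≠ 0) (hfix : A *ᵥ v = v) : ∃ i, d i = 1 := by
  set w := P⁻¹ *ᵥ v with hw
  have hPw : P *ᵥ w = v := by rw [hw, Matrix.mulVec_mulVec, Matrix.mul_nonsing_inv _ hP, Matrix.one_mulVec]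
  have hd : Matrix.diagonal d *ᵥ w = w := by
    have h1 : P *ᵥ (Matrix.diagonal d *ᵥ w) = P *ᵥ w := by
      rw [Matrix.mulVec_mulVec, ← h, ← Matrix.mulVec_mulVec, hPw, hfix]
    have h2 := congrArg (P⁻¹ *ᵥ ·) h1
    simpa [Matrix.mulVec_mulVec, Matrix.nonsing_inv_mul _ hP, ← Matrix.mul_assoc] using h2
  obtain ⟨i, hi⟩ : ∃ i, w i ≠ 0 := by
    by_contra hne
    push Not at hne
    exact hv (by rw [← hPw, show w = 0 from funext hne, Matrix.mulVec_zero])
  refine ⟨i, mul_right_cancel₀ hi ?_⟩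
  rw [one_mul]
  conv_rhs => rw [← hd]
  rw [Matrix.mulVec_diagonal]

/-- What an eigenvalue says about an element and its fixed vectors. -/
structure Eig (M : Matrix.SpecialLinearGroup (Fin 2) K) (μ : AlgebraicClosure K) : Prop where
  ne_zero : μ ≠ 0
  sq_ne : μ ^ 2 ≠ 1
  period : ∀ j, μ ^ (2 * j) = 1 →
    (QuotientGroup.mk M : Matrix.ProjectiveSpecialLinearGroup (Fin 2) K) ^ j = 1
  frob : μ ^ Fintype.card K = μ ∨ μ ^ Fintype.card K = μ⁻¹
  weight : ∀ v : (Fin m → Fin 2) → K, v ≠ 0 → ten p a (M : Matrix (Fin 2) (Fin 2) K) *ᵥ v = v →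
    ∃ i : Fin m → Fin 2, ∏ l, (![μ, μ⁻¹] (i l)) ^ p ^ a l = 1

theorem classify (M : Matrix.SpecialLinearGroup (Fin 2) K) :
    (QuotientGroup.mk M : Matrix.ProjectiveSpecialLinearGroup (Fin 2) K) ^ p = 1 ∨
      ∃ μ, Eig p a M μ := by
  rcases double_or_diag M with ⟨c, hc, hc2⟩ | ⟨μ, P, h0, h1, hP, ht, hMP⟩
  · exact Or.inl ((PGLTwo.sl_mk_pow_eq_one_iff M p).2
      ⟨_, PGLTwo.pow_char_of_double (hc.trans (two_mul c)) (by rw [M.det_coe, hc2])⟩)
  refine Or.inr ⟨μ, h0, h1, fun j hj => ?_, ?_, fun v hv hfix => ?_⟩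
  · set f := algebraMap K (AlgebraicClosure K)
    set A := (M : Matrix (Fin 2) (Fin 2) K).map f with hA
    have hpow : ∀ n : ℕ, A ^ n * P = P * Matrix.diagonal ![μ ^ n, μ⁻¹ ^ n] := by
      intro n
      induction n with
      | zero =>
        rw [pow_zero, pow_zero, pow_zero, Matrix.one_mul, show ![(1 : AlgebraicClosure K), 1] = fun _ => 1 by
          funext i; fin_cases i <;> rfl, Matrix.diagonal_one, Matrix.mul_one]
      | succ n ih =>
        rw [pow_succ', Matrix.mul_assoc, ih, ← Matrix.mul_assoc, hMP, Matrix.mul_assoc, Matrix.diagonal_mul_diagonal]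
        congr 2
        funext i
        fin_cases i <;> simp [pow_succ']
    have hAj : A ^ j = μ ^ j • (1 : Matrix (Fin 2) (Fin 2) (AlgebraicClosure K)) := by
      have hinv : μ⁻¹ ^ j = μ ^ j := by
        rw [inv_pow]
        exact inv_eq_of_mul_eq_one_right (by rw [← pow_add, ← two_mul]; exact hj)
      have h2 : A ^ j * P = (μ ^ j • (1 : Matrix (Fin 2) (Fin 2) (AlgebraicClosure K))) * P := by
        rw [hpow, hinv, Matrix.smul_mul, Matrix.one_mul, show ![μ ^ j, μ ^ j] = fun _ => μ ^ j by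
          funext i; fin_cases i <;> rfl, ← Matrix.smul_one_eq_diagonal, Matrix.mul_smul, Matrix.mul_one]
      have hu : IsUnit P.det := isUnit_iff_ne_zero.2 hP
      calc A ^ j = A ^ j * P * P⁻¹ := (Matrix.mul_nonsing_inv_cancel_right P (A ^ j) hu).symm
        _ = _ := by rw [h2, Matrix.mul_nonsing_inv_cancel_right _ _ hu]
    refine (PGLTwo.sl_mk_pow_eq_one_iff M j).2 (PGLTwo.isScalar_iff.2 ?_)
    have he : ∀ i k, f (((M : Matrix (Fin 2) (Fin 2) K) ^ j) i k) = (A ^ j) i k := fun i k => by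
      rw [hA, ← Matrix.map_pow]; rfl
    refine ⟨?_, ?_, f.injective ?_⟩
    · exact f.injective (by rw [he, hAj, map_zero]; simp)
    · exact f.injective (by rw [he, hAj, map_zero]; simp)
    · rw [he, he, hAj]; simp
  · set N := Fintype.card K with hN
    have hq : (μ + μ⁻¹) ^ N = μ + μ⁻¹ := by
      rw [ht, ← map_pow, FiniteField.pow_card]
    obtain ⟨n, -, hn⟩ := FiniteField.card K p
    haveI : CharP (AlgebraicClosure K) p :=
      charP_of_injective_algebraMap (algebraMap K (AlgebraicClosure K)).injective p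
    haveI : ExpChar (AlgebraicClosure K) p := ExpChar.prime hp.out
    rw [hN, hn, add_pow_char_pow, inv_pow] at hq
    rw [hN, hn]
    set y := μ ^ p ^ (n : ℕ) with hy
    have hy0 : y ≠ 0 := pow_ne_zero _ h0
    have hmul : (y - μ) * (y * μ - 1) = 0 := by
      have e1 : y * μ * (y + y⁻¹) = y * μ * (μ + μ⁻¹) := by rw [hq]
      field_simp at e1
      linear_combination e1
    rcases mul_eq_zero.1 hmul with h | h
    · exact Or.inl (sub_eq_zero.1 h)
    · exact Or.inr (eq_inv_of_mul_eq_one_left (sub_eq_zero.1 h))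
  · haveI : CharP (AlgebraicClosure K) p :=
      charP_of_injective_algebraMap (algebraMap K (AlgebraicClosure K)).injective p
    set f := algebraMap K (AlgebraicClosure K)
    have hu : IsUnit P.det := isUnit_iff_ne_zero.2 hP
    refine exists_weight_one (A := ten p a ((M : Matrix (Fin 2) (Fin 2) K).map f)) (P := ten p a P)
      (v := f ∘ v) (d := fun i => ∏ l, (![μ, μ⁻¹] (i l)) ^ p ^ a l) ?_ ?_ (fun h => hv ?_) ?_
    · refine Matrix.isUnit_det_of_right_inverse (B := ten p a P⁻¹) ?_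
      rw [← ten_mul, Matrix.mul_nonsing_inv _ hu, ten_one]
    · rw [← ten_mul, hMP, ten_mul, ten_diagonal]
    · funext i
      exact f.injective (by simpa using congrFun h i)
    · funext i
      conv_rhs => rw [← hfix]
      rw [← ten_map]
      exact (RingHom.map_mulVec f (ten p a (M : Matrix (Fin 2) (Fin 2) K)) v i).symm

end Cfsg.Agent.PSpFour
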