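import Cfsg.Agent.Lib.PSpFourSpec.Tensor

/-!
Bounds and witnesses for extensions of tensor modules.
-/

set_option autoImplicit false
set_option linter.unusedSectionVars false

namespace Cfsg.Agent.PSpFour

open Matrix FormTorus Recog

variable (p : ℕ) [hp : Fact p.Prime] {m : ℕ} (a : Fin m → ℕ) {K : Type} [Field K] [CharP K p] [Fintype K]

local notation "PSL2K" => Matrix.ProjectiveSpecialLinearGroup (Fin 2) K

/-- Every element of the extension is bounded. -/
theorem tensor_upper (h : Triv p a K) (P : ℕ → Prop) (hpp : P (p * p))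
    (hsemi : ∀ M μ, Eig p a M μ → ∃ n, P n ∧ (QuotientGroup.mk M : PSL2K) ^ n = 1)
    (hfixed : ∀ M μ, Eig p a M μ → ∀ i : Fin m → Fin 2, ∏ l, (![μ, μ⁻¹] (i l)) ^ p ^ a l = 1 →
      ∃ n, P (n * p) ∧ (QuotientGroup.mk M : PSL2K) ^ n = 1)
    (g : PSL2K) (v : (Fin m → Fin 2) → K) :
    ∃ N, P N ∧ g ^ N = 1 ∧ (∑ l ∈ Finset.range N, (en (pRep p a h g)) ^ l) v = 0 := by
  obtain ⟨M, rfl⟩ := QuotientGroup.mk_surjective g
  rcases classify p a M with hgp | ⟨μ, hμ⟩
  · exact ⟨p * p, hpp, by rw [pow_mul, hgp, one_pow], sum_mul_char p _ hgp v⟩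
  by_cases hfix : ∀ w, pRep p a h (QuotientGroup.mk M) w = w → w = 0
  · obtain ⟨n, hn, hgn⟩ := hsemi M μ hμ
    exact ⟨n, hn, hgn, sum_of_fixed_zero _ hgn hfix v⟩
  · push Not at hfix
    obtain ⟨w, hw, hw0⟩ := hfix
    obtain ⟨i, hi⟩ := hμ.weight w hw0 hw
    obtain ⟨n, hn, hgn⟩ := hfixed M μ hμ i hi
    exact ⟨n * p, hn, by rw [pow_mul, hgn, one_pow], sum_mul_char p _ hgn v⟩

/-- Exponents of a trivial weight. -/
theorem weight_dvd {L : Type*} [Field L] {μ : L} (h0 : μ ≠ 0) (i : Fin m → Fin 2)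
    (h : ∏ l, (![μ, μ⁻¹] (i l)) ^ p ^ a l = 1) :
    (orderOf μ : ℤ) ∣ ∑ l, (![1, -1] (i l) : ℤ) * (p ^ a l : ℕ) := by
  set u : Lˣ := Units.mk0 μ h0 with hu
  have key : ∀ (x : Fin 2) (N : ℕ), (![μ, μ⁻¹] x) ^ N = (((u ^ ((![1, -1] x : ℤ) * N) : Lˣ)) : L) := by
    intro x N
    fin_cases x <;> simp [hu, _root_.zpow_neg, inv_pow]
  have hprod : u ^ (∑ l, (![1, -1] (i l) : ℤ) * (p ^ a l : ℕ)) = 1 := by
    refine Units.ext ?_
    rw [Units.val_one]
    refine Eq.trans ?_ h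
    have : ∀ (s : Finset (Fin m)), ((u ^ (∑ l ∈ s, (![1, -1] (i l) : ℤ) * (p ^ a l : ℕ)) : Lˣ) : L) =
        ∏ l ∈ s, (![μ, μ⁻¹] (i l)) ^ p ^ a l := by
      intro s
      induction s using Finset.induction with
      | empty => simp
      | insert x s hx ih => rw [Finset.sum_insert hx, Finset.prod_insert hx, _root_.zpow_add, Units.val_mul, ih, key]
    exact this Finset.univ
  have := orderOf_dvd_iff_zpow_eq_one.2 hprod
  rwa [← orderOf_units, hu, Units.val_mk0] at this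

/-- The diagonal element with eigenvalue `μ`. -/
noncomputable def diagM (μ : Kˣ) : Matrix.SpecialLinearGroup (Fin 2) K :=
  ⟨Matrix.diagonal ![(μ : K), ((μ⁻¹ : Kˣ) : K)], by simp [Matrix.det_diagonal, Fin.prod_univ_two]⟩

theorem diagM_period (μ : Kˣ) {j : ℕ} (h : (QuotientGroup.mk (diagM μ) : PSL2K) ^ j = 1) :
    orderOf μ ∣ 2 * j := by
  obtain ⟨c, hc⟩ := (PGLTwo.sl_mk_pow_eq_one_iff _ j).1 h
  change Matrix.diagonal ![(μ : K), ((μ⁻¹ : Kˣ) : K)] ^ j = _ at hc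
  rw [Matrix.diagonal_pow, Matrix.smul_one_eq_diagonal] at hc
  have e0 : (μ : K) ^ j = c := by simpa using congrFun (Matrix.diagonal_injective hc) 0
  have e1 : ((μ⁻¹ : Kˣ) : K) ^ j = c := by simpa using congrFun (Matrix.diagonal_injective hc) 1
  refine orderOf_dvd_of_pow_eq_one (Units.ext ?_)
  rw [two_mul, pow_add, Units.val_mul, Units.val_pow_eq_pow_val, Units.val_one]
  nth_rewrite 1 [e0, ← e1]
  rw [← mul_pow, Units.inv_mul, one_pow]

/-- A diagonal element with a fixed vector reaches the exponent times the characteristic. -/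
theorem diag_witness (h : Triv p a K) (μ : Kˣ) (i : Fin m → Fin 2)
    (hi : ∏ l, (![(μ : K), ((μ⁻¹ : Kˣ) : K)] (i l)) ^ p ^ a l = 1) :
    ∃ g : PSL2K, ∃ v : (Fin m → Fin 2) → K, ∀ j, g ^ j = 1 →
      (∑ l ∈ Finset.range j, (en (pRep p a h g)) ^ l) v = 0 → orderOf μ ∣ 2 * j ∧ p ∣ j := by
  classical
  refine ⟨QuotientGroup.mk (diagM μ), Pi.single i 1, fun j hj hsum => ⟨diagM_period μ hj, ?_⟩⟩
  have hfx : en (pRep p a h (QuotientGroup.mk (diagM μ))) (Pi.single i 1) = Pi.single i 1 := by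
    show ten p a (Matrix.diagonal ![(μ : K), ((μ⁻¹ : Kˣ) : K)]) *ᵥ Pi.single i 1 = _
    rw [ten_diagonal, Matrix.diagonal_mulVec_single, hi, one_mul]
  have hfl : ∀ l, ((en (pRep p a h (QuotientGroup.mk (diagM μ)))) ^ l) (Pi.single i 1) = Pi.single i 1 := by
    intro l
    induction l with
    | zero => rfl
    | succ l ih => rw [pow_succ', Module.End.mul_apply, ih, hfx]
  rw [LinearMap.sum_apply] at hsum
  have h1 := congrFun hsum i
  simp only [hfl, Finset.sum_const, Finset.card_range, Pi.smul_apply, Pi.single_eq_same,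
    nsmul_eq_mul, mul_one, Pi.zero_apply] at h1
  exact (CharP.cast_eq_zero_iff K p j).1 h1

/-- A unipotent element with a vector not killed by its period. -/
theorem unip_witness (h : Triv p a K) (j0 : Fin m → Fin 2)
    (hne : ∑ i ∈ Finset.range p, ∏ l, (if j0 l = 1 then (i : K) else 1) ≠ 0) :
    ∃ g : PSL2K, ∃ v : (Fin m → Fin 2) → K, ∀ j, g ^ j = 1 →
      (∑ l ∈ Finset.range j, (en (pRep p a h g)) ^ l) v = 0 → p * p ∣ j := by
  classical
  let U : Matrix.SpecialLinearGroup (Fin 2) K := ⟨!![1, 1; 0, 1], by simp [Matrix.det_fin_two]⟩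
  have hU : ∀ n : ℕ, ((U ^ n : Matrix.SpecialLinearGroup (Fin 2) K) : Matrix (Fin 2) (Fin 2) K) =
      !![1, (n : K); 0, 1] := by
    intro n
    induction n with
    | zero => rw [pow_zero, Matrix.SpecialLinearGroup.coe_one, Nat.cast_zero, Matrix.one_fin_two]
    | succ n ih =>
      rw [pow_succ, Matrix.SpecialLinearGroup.coe_mul, ih]
      show _ * !![(1 : K), 1; 0, 1] = _
      rw [Matrix.mul_fin_two]
      simp [add_comm]
  set g : PSL2K := QuotientGroup.mk U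
  have hgp : g ^ p = 1 := (PGLTwo.sl_mk_pow_eq_one_iff U p).2
    ⟨_, PGLTwo.pow_char_of_double (a := 1) (by simp [U, Matrix.trace_fin_two])
      (by simp [U, Matrix.det_fin_two])⟩
  have hord : orderOf g = p := orderOf_eq_prime hgp fun h1 => by
    have := PGLTwo.isScalar_iff.1 ((PGLTwo.sl_mk_eq_one_iff U).1 h1)
    simp [U] at this
  refine ⟨g, Pi.single j0 1, fun j hj hsum => ?_⟩
  obtain ⟨l, rfl⟩ : p ∣ j := hord ▸ orderOf_dvd_of_pow_eq_one hj
  rw [sum_periods _ (rep_pow _ hgp), LinearMap.smul_apply] at hsum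
  refine Nat.mul_dvd_mul_left p ((CharP.cast_eq_zero_iff K p l).1 ((smul_eq_zero.1 hsum).resolve_right fun h0 => hne ?_))
  have h1 := congrFun h0 (fun _ => 0)
  rw [LinearMap.sum_apply, Finset.sum_apply, Pi.zero_apply] at h1
  rw [← h1]
  refine Finset.sum_congr rfl fun n _ => ?_
  have he : ((en (pRep p a h g)) ^ n) (Pi.single j0 1) =
      ten p a ((U ^ n : Matrix.SpecialLinearGroup (Fin 2) K) : Matrix (Fin 2) (Fin 2) K) *ᵥ Pi.single j0 1 := by
    rw [← en_pow, ← map_pow]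
    rfl
  rw [he, hU, Matrix.mulVec_single_one]
  show _ = ∏ l, (!![(1 : K), (n : K); 0, 1] 0 (j0 l)) ^ p ^ a l
  refine Finset.prod_congr rfl fun l _ => ?_
  have hn : (n : K) ^ p ^ a l = (n : K) := by
    haveI : ExpChar K p := ExpChar.prime hp.out
    rw [← iterateFrobenius_def, map_natCast]
  obtain hl | hl := Fin.exists_fin_two.1 ⟨j0 l, rfl⟩ <;> simp [hl, hn]

/-- An element with a given eigenvalue order and no condition on vectors. -/
theorem diag_order (h : Triv p a K) (μ : Kˣ) :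
    ∃ g : PSL2K, ∃ v : (Fin m → Fin 2) → K, ∀ j, g ^ j = 1 →
      (∑ l ∈ Finset.range j, (en (pRep p a h g)) ^ l) v = 0 → orderOf μ ∣ 2 * j :=
  ⟨QuotientGroup.mk (diagM μ), 0, fun _ hj _ => diagM_period μ hj⟩

/-- A unit of prescribed order. -/
theorem exists_unit {d : ℕ} (hd : d ∣ Fintype.card K - 1) : ∃ μ : Kˣ, orderOf μ = d := by
  obtain ⟨w, hw⟩ := IsCyclic.exists_ofOrder_eq_natCard (α := Kˣ)
  rw [Nat.card_units, Nat.card_eq_fintype_card] at hw
  exact ⟨w ^ (orderOf w / d), orderOf_pow_orderOf_div (orderOf_pos w).ne' (hw ▸ hd)⟩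

end Cfsg.Agent.PSpFour
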