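import Cfsg.Agent.Lib.PSpFourSpec.TensorSpec
import Cfsg.Agent.Lib.PSpFourSpec.Geom

/-!
The extension of a sixteen-dimensional module by `PSL(2, q²)` for `q` an even power of three.
-/

set_option autoImplicit false
set_option linter.unusedSectionVars false
set_option maxHeartbeats 1000000

namespace Cfsg.Agent.PSpFour

open Matrix FormTorus Recog

theorem exists_large_three {k : ℕ} (hk : Even k) (hk0 : 2 ≤ k) (M : ℕ) :
    ∃ (H : Type) (_ : Group H) (_ : Fintype H), M < Fintype.card H ∧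
      Set.range (orderOf : H → ℕ) = {N | InB 3 (3 ^ k) N} := by
  classical
  haveI : Fact (Nat.Prime 3) := ⟨Nat.prime_three⟩
  have hmod5 : 3 ^ k % 5 = 1 ∨ 3 ^ k % 5 = 4 := by
    obtain ⟨s, rfl⟩ := hk
    rw [← two_mul, pow_mul, show (3 : ℕ) ^ 2 = 9 from rfl]
    clear hk0
    induction s with
    | zero => exact Or.inl rfl
    | succ s ih => rw [pow_succ, Nat.mul_mod]; rcases ih with h | h <;> rw [h] <;> simp
  let K := GaloisField 3 (2 * k)
  haveI : Fintype K := Fintype.ofFinite K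
  set q := 3 ^ k with hq
  have hcard : Fintype.card K = q ^ 2 := by
    rw [← Nat.card_eq_fintype_card, GaloisField.card 3 _ (by omega), hq, ← pow_mul, mul_comm]
  have hoddq : Odd q := Odd.pow ⟨1, rfl⟩
  have hq9 : 9 ≤ q := le_trans (by norm_num) (Nat.pow_le_pow_right (by norm_num) hk0)
  have h3q : 3 ∣ q := dvd_pow_self 3 (by omega)
  let a : Fin 4 → ℕ := ![0, 1, k, k]
  have hTriv : Triv 3 a K := fun c hc => by
    have h3 : ∀ n : ℕ, c ^ 3 ^ n = c := fun n => by
      obtain ⟨z, hz⟩ := (Odd.pow ⟨1, rfl⟩ : Odd (3 ^ n))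
      rw [hz, pow_succ, pow_mul, sq, hc, one_pow, one_mul]
    simp only [h3, Fin.prod_univ_four]
    linear_combination (c * c + 1) * hc
  have hep : Even (q ^ 2 + 1) := hoddq.pow.add_one
  have hem : Even (q ^ 2 - 1) := Nat.Odd.sub_odd hoddq.pow odd_one
  have hinB : ∀ n, (n = q + 1 ∨ n = q - 1) → InB 3 q (n * 3) := by
    rintro n (rfl | rfl)
    · exact Or.inr (Or.inr (Or.inl (mul_comm _ 3).dvd))
    · exact Or.inr (Or.inr (Or.inr (Or.inl (mul_comm _ 3).dvd)))
  obtain ⟨H, i1, i2, hM, hH⟩ := exists_large (pRep 3 a hTriv) 3 M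
  refine ⟨H, i1, i2, hM, hH.trans (range_eq _ (InB 3 q) (fun N d => inB_dvd)
    (tensor_upper 3 a hTriv (InB 3 q) ?_ ?_ ?_) ?_)⟩
  · refine Or.inr (Or.inr (Or.inr (Or.inr ?_)))
    rw [show Nat.clog 3 4 = 2 by decide]
    norm_num
  · intro M μ hμ
    rcases hμ.frob with h | h <;> rw [hcard] at h
    · refine ⟨(q ^ 2 - 1) / 2, Or.inr (Or.inl dvd_rfl), hμ.period _ ?_⟩
      rw [Nat.two_mul_div_two_of_even hem]
      refine mul_right_cancel₀ hμ.ne_zero ?_
      rw [← pow_succ, one_mul, Nat.sub_add_cancel (Nat.one_le_pow _ _ (by omega)), h]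
    · refine ⟨(q ^ 2 + 1) / 2, Or.inl dvd_rfl, hμ.period _ ?_⟩
      rw [Nat.two_mul_div_two_of_even hep, pow_succ, h, inv_mul_cancel₀ hμ.ne_zero]
  · intro M μ hμ i hi
    set o := orderOf μ with ho
    have hdvd := weight_dvd 3 a hμ.ne_zero i hi
    rw [← ho] at hdvd
    -- the period of the element
    have hper : o ∣ q ^ 2 - 1 ∨ o ∣ q ^ 2 + 1 := by
      rcases hμ.frob with h | h <;> rw [hcard] at h
      · refine Or.inl (orderOf_dvd_of_pow_eq_one (mul_right_cancel₀ hμ.ne_zero ?_))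
        rw [← pow_succ, one_mul, Nat.sub_add_cancel (Nat.one_le_pow _ _ (by omega)), h]
      · refine Or.inr (orderOf_dvd_of_pow_eq_one ?_)
        rw [pow_succ, h, inv_mul_cancel₀ hμ.ne_zero]
    have hno2 : ¬ o ∣ 2 := fun h => hμ.sq_ne (orderOf_dvd_iff_pow_eq_one.1 h)
    have hno3 : ¬ 3 ∣ o := fun h => by
      have hq2 : 3 ∣ q ^ 2 := dvd_pow h3q two_ne_zero
      rcases hper with h' | h'
      · have := Nat.dvd_sub hq2 (h.trans h')
        rw [show q ^ 2 - (q ^ 2 - 1) = 1 by have := Nat.one_le_pow 2 q (by omega); omega] at this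
        omega
      · have := (Nat.dvd_add_right hq2).1 (h.trans h')
        omega
    have hbad : ∀ b, (b = q + 2 ∨ b = q - 2) → ¬ o ∣ 2 * b := by
      intro b hb hob
      rcases hper with h' | h'
      · have h4 : o ∣ 2 * (q ^ 2 - 4) := by
          rcases hb with rfl | rfl
          · exact hob.trans ⟨q - 2, by rw [mul_assoc, ← Nat.sq_sub_sq]⟩
          · exact hob.trans ⟨q + 2, by rw [mul_assoc, mul_comm (q - 2), ← Nat.sq_sub_sq]⟩
        have h6 := Nat.dvd_sub (h'.mul_left 2) h4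
        have hq2 : 81 ≤ q ^ 2 := le_trans (by norm_num) (Nat.pow_le_pow_left hq9 2)
        rw [show 2 * (q ^ 2 - 1) - 2 * (q ^ 2 - 4) = 2 * 3 by omega] at h6
        exact hno2 ((Nat.Coprime.symm ((Nat.prime_three.coprime_iff_not_dvd).2 hno3)).dvd_of_dvd_mul_right h6)
      · have h5o : ¬ 5 ∣ o := fun h5 => by
          have h5b : 5 ∣ b := (Nat.Coprime.dvd_of_dvd_mul_left (by norm_num) (h5.trans hob))
          rcases hb with rfl | rfl <;> omega
        have hb4 : b * (if b = q + 2 then q - 2 else q + 2) = q ^ 2 - 4 := by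
          rcases hb with rfl | rfl
          · rw [if_pos rfl, ← Nat.sq_sub_sq]
          · rw [if_neg (by omega), mul_comm, ← Nat.sq_sub_sq]
        have h4 : o ∣ 2 * (q ^ 2 - 4) := by
          rw [← hb4, ← mul_assoc]
          exact hob.trans (dvd_mul_right _ _)
        have h10 := Nat.dvd_sub (h'.mul_left 2) h4
        have hq2 : 81 ≤ q ^ 2 := le_trans (by norm_num) (Nat.pow_le_pow_left hq9 2)
        rw [show 2 * (q ^ 2 + 1) - 2 * (q ^ 2 - 4) = 2 * 5 by omega] at h10
        exact hno2 ((Nat.Coprime.symm ((Nat.prime_five.coprime_iff_not_dvd).2 h5o)).dvd_of_dvd_mul_right h10)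
    suffices h : o ∣ 2 * (q + 1) ∨ o ∣ 2 * (q - 1) by
      rcases h with h | h
      · exact ⟨q + 1, hinB _ (Or.inl rfl), hμ.period _ (orderOf_dvd_iff_pow_eq_one.1 h)⟩
      · exact ⟨q - 1, hinB _ (Or.inr rfl), hμ.period _ (orderOf_dvd_iff_pow_eq_one.1 h)⟩
    set A : ℤ := ∑ l, (![1, -1] (i l) : ℤ) * (3 ^ a l : ℕ) with hA
    have hA' : A = (![1, -1] (i 0) : ℤ) + (![1, -1] (i 1) : ℤ) * 3 + (![1, -1] (i 2) : ℤ) * q +
        (![1, -1] (i 3) : ℤ) * q := by
      rw [hA, Fin.sum_univ_four]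
      simp [a, hq]
    have hh : ∀ B : ℕ, (A = B ∨ A = -(B : ℤ)) → o ∣ B := fun B hB => by
      rcases hB with e | e <;> rw [e] at hdvd
      · exact Int.natCast_dvd_natCast.1 hdvd
      · exact Int.natCast_dvd_natCast.1 (Int.dvd_neg.1 hdvd)
    have hcases : (A = (2 : ℕ) ∨ A = -((2 : ℕ) : ℤ)) ∨ (A = (4 : ℕ) ∨ A = -((4 : ℕ) : ℤ)) ∨
        (A = (2 * (q + 1) : ℕ) ∨ A = -((2 * (q + 1) : ℕ) : ℤ)) ∨
        (A = (2 * (q - 1) : ℕ) ∨ A = -((2 * (q - 1) : ℕ) : ℤ)) ∨
        (A = (2 * (q + 2) : ℕ) ∨ A = -((2 * (q + 2) : ℕ) : ℤ)) ∨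
        (A = (2 * (q - 2) : ℕ) ∨ A = -((2 * (q - 2) : ℕ) : ℤ)) := by
      rw [hA', Nat.cast_mul, Nat.cast_mul, Nat.cast_mul, Nat.cast_mul, Nat.cast_sub (by omega : 1 ≤ q),
        Nat.cast_sub (by omega : 2 ≤ q)]
      obtain h0 | h0 := Fin.exists_fin_two.1 ⟨i 0, rfl⟩ <;>
      obtain h1 | h1 := Fin.exists_fin_two.1 ⟨i 1, rfl⟩ <;>
      obtain h2 | h2 := Fin.exists_fin_two.1 ⟨i 2, rfl⟩ <;>
      obtain h3 | h3 := Fin.exists_fin_two.1 ⟨i 3, rfl⟩ <;>
      simp only [h0, h1, h2, h3, Matrix.cons_val_zero, Matrix.cons_val_one, Matrix.head_cons] <;>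
      first
        | (left; left; push_cast; ring1)
        | (left; right; push_cast; ring1)
        | (right; left; left; push_cast; ring1)
        | (right; left; right; push_cast; ring1)
        | (right; right; left; left; push_cast; ring1)
        | (right; right; left; right; push_cast; ring1)
        | (right; right; right; left; left; push_cast; ring1)
        | (right; right; right; left; right; push_cast; ring1)
        | (right; right; right; right; left; left; push_cast; ring1)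
        | (right; right; right; right; left; right; push_cast; ring1)
        | (right; right; right; right; right; left; push_cast; ring1)
        | (right; right; right; right; right; right; push_cast; ring1)
    rcases hcases with h | h | h | h | h | h
    · exact absurd (hh _ h) hno2
    · exact Or.inl ((hh _ h).trans (by
        obtain ⟨z, hz⟩ := hoddq.add_one
        exact ⟨z, by omega⟩))
    · exact Or.inl (hh _ h)
    · exact Or.inr (hh _ h)
    · exact absurd (hh _ h) (hbad _ (Or.inl rfl))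
    · exact absurd (hh _ h) (hbad _ (Or.inr rfl))
  · -- attainment
    intro N hN
    have hdiv : ∀ n, n = q + 1 ∨ n = q - 1 → 2 * n ∣ Fintype.card K - 1 := by
      rintro n (rfl | rfl) <;> rw [hcard, ← one_pow 2, Nat.sq_sub_sq]
      · rw [mul_comm 2]
        exact Nat.mul_dvd_mul_left _ (Nat.Odd.sub_odd hoddq odd_one).two_dvd
      · exact Nat.mul_dvd_mul_right hoddq.add_one.two_dvd _
    have mixed : ∀ n (i : Fin 4 → Fin 2) (μ : Kˣ), (n = q + 1 ∨ n = q - 1) → orderOf μ = 2 * n →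
        ∏ l, (![(μ : K), ((μ⁻¹ : Kˣ) : K)] (i l)) ^ 3 ^ a l = 1 → N ∣ 3 * n →
        ∃ g, ∃ v : (Fin 4 → Fin 2) → K, ∀ j, g ^ j = 1 →
          (∑ l ∈ Finset.range j, (en (pRep 3 a hTriv g)) ^ l) v = 0 → N ∣ j := by
      intro n i μ hn ho hi hNn
      obtain ⟨g, v, hg⟩ := diag_witness 3 a hTriv μ i hi
      refine ⟨g, v, fun j h1 h2 => hNn.trans ?_⟩
      obtain ⟨hj, h3j⟩ := hg j h1 h2
      rw [ho] at hj
      refine Nat.Coprime.mul_dvd_of_dvd_of_dvd ?_ h3j (Nat.dvd_of_mul_dvd_mul_left two_pos hj)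
      refine (Nat.prime_three.coprime_iff_not_dvd).2 fun h => ?_
      rcases hn with rfl | rfl <;> omega
    rcases hN with h | h | h | h | h
    · obtain ⟨s, hs, -⟩ := PGLTwo.exists_psl_elliptic (F := K) (by rw [hcard]; exact hoddq.pow)
        (by rw [hcard]; nlinarith)
      refine ⟨QuotientGroup.mk s, 0, fun j hj _ => h.trans ?_⟩
      rw [← hcard, ← hs]
      exact orderOf_dvd_of_pow_eq_one hj
    · obtain ⟨μ, hμ⟩ := exists_unit (K := K) (d := q ^ 2 - 1) (by rw [hcard])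
      obtain ⟨g, v, hg⟩ := diag_order 3 a hTriv μ
      refine ⟨g, v, fun j h1 h2 => h.trans ?_⟩
      have := hg j h1 h2
      rw [hμ, ← Nat.two_mul_div_two_of_even hem] at this
      exact Nat.dvd_of_mul_dvd_mul_left two_pos this
    · obtain ⟨μ, hμ⟩ := exists_unit (K := K) (hdiv _ (Or.inl rfl))
      refine mixed _ ![1, 0, 0, 0] μ (Or.inl rfl) hμ ?_ h
      have h1 : (μ : K) ^ (2 * (q + 1)) = 1 := by rw [← Units.val_pow_eq_pow_val, ← hμ, pow_orderOf_eq_one]; rfl
      simp [Fin.prod_univ_four, a, ← hq]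
      linear_combination h1 + (μ : K) ^ (2 * q + 2) * inv_mul_cancel₀ μ.ne_zero
    · obtain ⟨μ, hμ⟩ := exists_unit (K := K) (hdiv _ (Or.inr rfl))
      refine mixed _ ![1, 0, 1, 1] μ (Or.inr rfl) hμ ?_ h
      have h1 : (μ : K) ^ (2 * (q - 1)) = 1 := by rw [← Units.val_pow_eq_pow_val, ← hμ, pow_orderOf_eq_one]; rfl
      have h2 : (μ : K) ^ (2 * q) = (μ : K) ^ 2 := by
        rw [show 2 * q = 2 * (q - 1) + 2 by omega, pow_add, h1, one_mul]
      simp [Fin.prod_univ_four, a, ← hq]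
      rw [mul_assoc, ← mul_inv, ← pow_add, ← two_mul, h2, pow_succ' (μ : K) 2, ← mul_assoc,
        inv_mul_cancel₀ μ.ne_zero, one_mul, mul_inv_cancel₀ (pow_ne_zero 2 μ.ne_zero)]
    · obtain ⟨g, v, hg⟩ := unip_witness 3 a hTriv ![1, 0, 1, 0] (by
        simp [Finset.sum_range_succ, Fin.prod_univ_four]
        intro h5
        have := (CharP.cast_eq_zero_iff K 3 5).1 (by push_cast; linear_combination h5)
        omega)
      refine ⟨g, v, fun j h1 h2 => h.trans ?_⟩
      rw [show Nat.clog 3 4 = 2 by decide, sq]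
      exact hg j h1 h2

end Cfsg.Agent.PSpFour
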